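import Cfsg.Agent.Lib.HeType.Cert.Fast
import Cfsg.Agent.Lib.HeType.Coords.Mul
import Cfsg.Agent.Lib.HeType.Coords.Act
import Cfsg.Agent.Lib.HeType.Coords.NormalForm

/-!
# The fast multiplication agrees with the multiplication of codes
-/

set_option autoImplicit false
set_option maxRecDepth 100000

namespace CfsgLib.HeType.Cert

/-- Pass the value of a natural number on. -/
def frc {α : Type} (n : ℕ) (k : ℕ → α) : α :=
  match n with
  | 0 => k 0
  | m + 1 => k (m + 1)

theorem frc_eq {α : Type} (n : ℕ) (k : ℕ → α) : frc n k = k n := by cases n <;> rfl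

/-- Follow a word from a class with the packed steps. -/
def walkT : List ℕ → ℕ → ℕ → ℕ
  | [], l, bit => l + 256 * bit
  | k :: w, l, bit => frc (tGet nTab 9 l k) fun n => frc (n % 256) fun l' => frc ((bit + n / 256) % 2) fun b =>
      walkT w l' b

theorem q_check0 : (List.range 64).all (fun v => (List.range 128).all fun w => fQ v w == qMul v w) = true := by
  decide +kernel

theorem q_check1 : (List.range' 64 64).all (fun v => (List.range 128).all fun w => fQ v w == qMul v w) = true := by
  decide +kernel

theorem g_check : (List.range 3).all (fun k => (List.range 128).all fun v =>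
    tGet gTab 8 k v == qAut (imOf R0 k) v) = true := by
  decide +kernel

theorem a_check : (List.range 168).all (fun l => (List.range 128).all fun v =>
    (lPaths.getD l []).foldr (fun k w => frc w (tGet gTab 8 k)) v == fA l v) = true := by
  decide +kernel

theorem n_check : (List.range 168).all (fun l => (List.range 3).all fun k =>
    (tGet nTab 9 l k == (lNexts.getD l []).getD k 0) && Nat.blt (tGet nTab 9 l k % 256) 168) = true := by
  decide +kernel

theorem m_check0 : (List.range 84).all (fun l => (List.range 168).all fun m =>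
    walkT (lPaths.getD m []) l 0 == fM l m) = true := by
  decide +kernel

theorem m_check1 : (List.range' 84 84).all (fun l => (List.range 168).all fun m =>
    walkT (lPaths.getD m []) l 0 == fM l m) = true := by
  decide +kernel

theorem lPaths_small {m k : ℕ} (hk : k ∈ lPaths.getD m []) : k < 3 := by
  rcases Nat.lt_or_ge m lPaths.length with hm | hm
  · rw [List.getD_eq_getElem _ _ hm] at hk
    exact Nat.le_of_ble_eq_true (List.all_eq_true.1 (List.all_eq_true.1 lPaths_lt _ (List.getElem_mem _)) k hk)
  · rw [List.getD_eq_default _ _ hm] at hk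
    simp at hk

theorem fQ_eq {v w : ℕ} (hv : v < 128) (hw : w < 128) : fQ v w = qMul v w := by
  rcases Nat.lt_or_ge v 64 with h | h
  · exact eq_of_beq (List.all_eq_true.1 (List.all_eq_true.1 q_check0 v (List.mem_range.2 h)) w (List.mem_range.2 hw))
  · exact eq_of_beq (List.all_eq_true.1 (List.all_eq_true.1 q_check1 v (by simp [List.mem_range'_1]; omega)) w
      (List.mem_range.2 hw))

theorem foldr_gT {v : ℕ} (hv : v < 128) : ∀ w : List ℕ, (∀ k ∈ w, k < 3) →
    w.foldr (fun k u => frc u (tGet gTab 8 k)) v = w.foldr (fun k u => qAut (imOf R0 k) u) v ∧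
      w.foldr (fun k u => qAut (imOf R0 k) u) v < 128
  | [], _ => ⟨rfl, hv⟩
  | k :: w, h => by
    obtain ⟨e, hlt⟩ := foldr_gT hv w fun j hj => h j (by simp [hj])
    refine ⟨?_, qAut_lt _ _⟩
    rw [List.foldr_cons, List.foldr_cons, frc_eq, e]
    exact eq_of_beq (List.all_eq_true.1 (List.all_eq_true.1 g_check k (List.mem_range.2 (h k (by simp)))) _
      (List.mem_range.2 hlt))

theorem fA_eq {l v : ℕ} (hl : l < 168) (hv : v < 128) : fA l v = lAct R0 l v := by
  rw [← eq_of_beq (List.all_eq_true.1 (List.all_eq_true.1 a_check l (List.mem_range.2 hl)) v (List.mem_range.2 hv)),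
    (foldr_gT hv _ fun k hk => lPaths_small hk).1, lAct]

theorem walkT_eq : ∀ (w : List ℕ), (∀ k ∈ w, k < 3) → ∀ l bit : ℕ, l < 168 →
    walkT w l bit = lWalk true w l bit
  | [], _, _, _, _ => rfl
  | k :: w, h, l, bit, hl => by
    have hc := List.all_eq_true.1 (List.all_eq_true.1 n_check l (List.mem_range.2 hl)) k
      (List.mem_range.2 (h k (by simp)))
    simp only [Bool.and_eq_true, beq_iff_eq, Nat.blt_eq] at hc
    rw [walkT, frc_eq, frc_eq, frc_eq, walkT_eq w (fun j hj => h j (by simp [hj])) _ _ hc.2, hc.1]
    simp [lWalk]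

theorem fM_eq {l m : ℕ} (hl : l < 168) (hm : m < 168) : fM l m = lWalk true (lPaths.getD m []) l 0 := by
  rw [← walkT_eq _ (fun k hk => lPaths_small hk) _ _ hl]
  rcases Nat.lt_or_ge l 84 with h | h
  · exact (eq_of_beq (List.all_eq_true.1 (List.all_eq_true.1 m_check0 l (List.mem_range.2 h)) m
      (List.mem_range.2 hm))).symm
  · exact (eq_of_beq (List.all_eq_true.1 (List.all_eq_true.1 m_check1 l (by simp [List.mem_range'_1]; omega)) m
      (List.mem_range.2 hm))).symm

theorem fMul_eq {c d : ℕ} (hc : c < 21504) (hd : d < 21504) (hb : cMul R0 true c d < 21504) :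
    fMul c d = cMul R0 true c d := by
  have hl : c / 128 < 168 := by omega
  have hm : d / 128 < 168 := by omega
  have hA : lAct R0 (c / 128) (d % 128) < 128 :=
    (foldr_gT (Nat.mod_lt _ (by norm_num)) _ fun k hk => lPaths_small hk).2
  have hbit : 64 * (lWalk true (lPaths.getD (d / 128) []) (c / 128) 0 / 256) < 128 := by
    have key : ∀ (w : List ℕ) (l bit : ℕ), bit < 2 → l < 168 → (∀ k ∈ w, k < 3) →
        lWalk true w l bit / 256 < 2 := by
      intro w
      induction w with
      | nil => intro l bit hb hl _; simp only [lWalk]; omega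
      | cons k w ih =>
        intro l bit hb hl h
        have hc := List.all_eq_true.1 (List.all_eq_true.1 n_check l (List.mem_range.2 hl)) k
          (List.mem_range.2 (h k (by simp)))
        simp only [Bool.and_eq_true, beq_iff_eq, Nat.blt_eq] at hc
        simp only [lWalk, if_true]
        exact ih _ _ (by omega) (hc.1 ▸ hc.2) fun j hj => h j (by simp [hj])
    have := key _ (c / 128) 0 (by norm_num) hl fun k hk => lPaths_small (m := d / 128) hk
    omega
  simp only [fMul, cMul]
  rw [fA_eq hl (Nat.mod_lt _ (by norm_num)), fM_eq hl hm, fQ_eq (Nat.mod_lt _ (by norm_num)) hA,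
    fQ_eq (qMul_lt _ _) hbit]

end CfsgLib.HeType.Cert
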