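import Cfsg.Agent.Lib.HeType.Cert.AutTab
import Cfsg.Agent.Lib.HeType.Side.Classify

/-!
The element of order three of the certificates, from the coordinates, the order and the fused involution.
-/

set_option autoImplicit false
set_option linter.unusedSectionVars false

namespace CfsgLib.HeType.Cert.Aut

variable {G : Type*} [Group G] [Finite G] {t : G} {Q : Subgroup G} {x y r : G} {a b : ℕ → G}

theorem imgs_of_tab {el : ℕ → G} {s : G} {p : ℕ × ℕ} (T : HeType.Side.HasTab t el s p) {u v : ℕ}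
    (h : p = (u, v)) : Imgs el s [256, u, v] := by
  subst h
  intro k hk
  match k, hk with
  | 0, _ => exact mul_inv_eq_iff_eq_mul.1 T.on0
  | 1, _ => exact mul_inv_eq_iff_eq_mul.1 T.on2
  | 2, _ => exact mul_inv_eq_iff_eq_mul.1 T.on3

set_option maxHeartbeats 100000 in
/-- The types. -/
theorem side (C : Coords t Q [65, 4, 2, 72, 120, 96] true x y r a b) (hf : IsConj t (a 0)) :
    Side t (cEl t a b x y r) := by
  obtain ⟨s, h3, h⟩ := HeType.Side.classify C hf
  have hs : s ^ 3 = 1 := by rw [pow_succ, pow_two, h3]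
  rcases h with ⟨T, h8, -, -⟩ | ⟨T, -, -, -⟩ | ⟨T, h8⟩
  · exact ⟨s, T.mapT, hs, Or.inl ⟨imgs_of_tab T HeType.Side.heTab.eq_1, h8⟩⟩
  · exact ⟨s, T.mapT, hs, Or.inr (Or.inl (imgs_of_tab T HeType.Side.normTab.eq_1))⟩
  · exact ⟨s, T.mapT, hs, Or.inr (Or.inr ⟨imgs_of_tab T HeType.Side.normTwin.eq_1, h8⟩)⟩

/-- In a group of the order of the Held group: the element of order three, in the given or the exchanged
coordinates. -/
theorem exists_s (C : Coords t Q [65, 4, 2, 72, 120, 96] true x y r a b) (hG : Nat.card G = 4030387200)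
    (hf : IsConj t (a 0)) :
    ∃ (x' y' r' : G) (a' b' : ℕ → G), Coords t Q [65, 4, 2, 72, 120, 96] true x' y' r' a' b' ∧
      IsConj t (a' 0) ∧ IsConj t (b' 0) ∧ ∃ s : G, s ^ 3 = 1 ∧ s * t * s⁻¹ = cEl t a' b' x' y' r' 1 ∧
        ∀ B ∈ psiTab, ∀ e ∈ B,
          s * cEl t a' b' x' y' r' (fld' e 0) * s⁻¹ = cEl t a' b' x' y' r' (fld' e 2) :=
  exists_s_of_side C hG hf fun C' hf' => side C' hf'

end CfsgLib.HeType.Cert.Aut
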