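import Cfsg.Agent.Lib.HeType.Local.Fast
import Cfsg.Agent.Lib.HeType.Cert.Data.AutTables

/-!
Kernel checks of the tables of the automorphisms of the joint centraliser.
-/

set_option autoImplicit false
set_option maxRecDepth 100000
set_option Elab.async false

namespace CfsgLib.HeType.Cert.Aut

open Local

/-- The product of codes. -/
abbrev mm : ℕ → ℕ → ℕ := fm actT0 lmT

/-- A lookup in blocks of 64. -/
def bg (L : List (List ℕ)) (i : ℕ) : ℕ := (L.getD (i / 64) []).getD (i % 64) 0

/-- The code at a place of the tree. -/
def code (i : ℕ) : ℕ := bg treeT i % 2 ^ 16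

/-- The parent of a place. -/
def par (i : ℕ) : ℕ := bg treeT i / 2 ^ 16 % 2 ^ 16

/-- The generator of a place. -/
def gn (i : ℕ) : ℕ := bg treeT i / 2 ^ 32

/-- The three generators. -/
def gens : List ℕ := [256, 422, 14531]

/-- A place fits the tree and the table. -/
def treeRow (psi : List (List ℕ)) (im : List ℕ) (i : ℕ) : Bool :=
  if i == 0 then code 0 == 0 && bg psi 0 == 0
  else decide (par i < i) && decide (gn i < 3) &&
    code i == mm (code (par i)) (gens.getD (gn i) 0) && bg psi i == mm (bg psi (par i)) (im.getD (gn i) 0)

/-- The tables fit. -/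
def treeOk (psi : List (List ℕ)) (im : List ℕ) : Bool := (List.range 1536).all (treeRow psi im)

theorem tree_he : treeOk psiHe [20829, 398, 16453] = true := by decide +kernel

theorem tree_m1 : treeOk psiM1 [256, 14609, 19527] = true := by decide +kernel

theorem tree_m2 : treeOk psiM2 [256, 14672, 19527] = true := by decide +kernel

theorem codes_d : ((List.range 21504).filter fun c => mm c 1 == mm 1 c) = dCodes.flatten := by decide +kernel

theorem places : ((List.range 1536).all fun j =>
    decide (bg dPlace j < 1536) && code (bg dPlace j) == bg dCodes j) = true := by decide +kernel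

theorem flat_d : dCodes.flatten = (List.range 1536).map (bg dCodes) := by decide +kernel

theorem inner_he : ([256, 422, 14531].zip [(256, 20829), (486, 398), (16453, 16453)]).all
    (fun g => mm 19502 g.2.1 == mm g.2.2 19502) = true := by decide +kernel

end CfsgLib.HeType.Cert.Aut
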