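import Mathlib.GroupTheory.GroupAction.Quotient
import Mathlib.GroupTheory.Subgroup.Centralizer
import Mathlib.Tactic

/-!
# The geometry of the transvection configuration

Two elementary groups of order sixteen through the central involution, each permuted transitively by its normaliser,
with the incidence of the linear model: the conjugates of the first fall into collinearity classes of size 31.
-/

set_option autoImplicit false
set_option linter.unusedSectionVars false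

namespace CfsgLib.HeType.Cert.Geom

open Subgroup

variable {G : Type*} [Group G] [Finite G]

/-- Orbit and stabiliser for conjugation by a subgroup. -/
theorem orbit_card (H : Subgroup G) (x : G) :
    Nat.card ↥H = ((fun h => h * x * h⁻¹) '' (H : Set G)).ncard * Nat.card ↥(H ⊓ centralizer ({x} : Set G)) := by
  letI : MulAction ↥H G := MulAction.compHom G (MulAut.conj.comp H.subtype)
  have hsm : ∀ (g : ↥H) (a : G), g • a = (g : G) * a * (g : G)⁻¹ := fun g a => rfl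
  have horb : MulAction.orbit ↥H x = (fun h => h * x * h⁻¹) '' (H : Set G) := by
    ext a
    constructor
    · rintro ⟨g, rfl⟩
      exact ⟨g, g.2, (hsm g x).symm⟩
    · rintro ⟨h, hh, rfl⟩
      exact ⟨⟨h, hh⟩, hsm ⟨h, hh⟩ x⟩
  have hst : MulAction.stabilizer ↥H x = (H ⊓ centralizer ({x} : Set G)).subgroupOf H := by
    ext g
    rw [MulAction.mem_stabilizer_iff, hsm, mem_subgroupOf, mem_inf, mem_centralizer_singleton_iff,
      mul_inv_eq_iff_eq_mul]
    exact ⟨fun h => ⟨g.2, h⟩, fun h => h.2⟩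
  have h := Nat.card_congr (MulAction.orbitProdStabilizerEquivGroup ↥H x)
  rw [Nat.card_prod, horb, hst, Nat.card_congr (subgroupOfEquivOfLe inf_le_left).toEquiv, Nat.card_coe_set_eq] at h
  exact h.symm

/-- The configuration forces 31 into the order. -/
theorem dvd_card {W1 W2 : Subgroup G} {t b m0 : G}
    (ht : t ≠ 1) (h1t : t ∈ W1) (h2t : t ∈ W2) (hW1 : Nat.card ↥W1 = 16) (hW2 : Nat.card ↥W2 = 16)
    (hW1c : ∀ u ∈ W1, u * t = t * u) (hW2c : ∀ u ∈ W2, u * t = t * u)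
    (hint : ∀ u ∈ W1, u ∈ W2 → u = 1 ∨ u = t)
    (hC1 : centralizer ({t} : Set G) ≤ normalizer (W1 : Set G))
    (hC2 : centralizer ({t} : Set G) ≤ normalizer (W2 : Set G))
    (htr : ∀ u ∈ W1, u ≠ 1 → ∃ n ∈ normalizer (W1 : Set G), n * t * n⁻¹ = u)
    (hm0 : m0 ∈ normalizer (W2 : Set G)) (hb : m0 * t * m0⁻¹ = b) (hbt : b ≠ t)
    (hB : ∀ u ∈ W2, u ≠ 1 → u ≠ t → ∃ c, c * t = t * c ∧ c * b * c⁻¹ = u)
    (hX : Nat.card ↥(W1 ⊓ centralizer ({b} : Set G)) = 8)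
    (hsup : ∀ u ∈ W1, u * b = b * u → u ≠ 1 → u ≠ t → ∃ n ∈ normalizer (W1 : Set G), ∃ v ∈ W2,
      v ≠ 1 ∧ v ≠ t ∧ n * t * n⁻¹ = u ∧ m0⁻¹ * (n * v * n⁻¹) * m0 ∈ W1) :
    31 ∣ Nat.card G := by
  classical
  set N := normalizer (W1 : Set G) with hN
  set C := centralizer ({t} : Set G) with hC
  have memC : ∀ {g : G}, g ∈ C ↔ g * t = t * g := fun {g} => mem_centralizer_singleton_iff
  have conjC : ∀ {g : G}, g * t * g⁻¹ = t → g ∈ C := fun {g} h => memC.2 (mul_inv_eq_iff_eq_mul.1 h)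
  have cne1 : ∀ {g u : G}, u ≠ 1 → g * u * g⁻¹ ≠ 1 := fun {g u} hu h => hu (by
    rw [mul_inv_eq_one, mul_eq_left] at h; exact h)
  have nmem : ∀ {g : G}, g * t * g⁻¹ ∈ W1 → g ∈ N := by
    intro g hg
    obtain ⟨n, hn, e⟩ := htr _ hg (cne1 ht)
    have : n⁻¹ * g ∈ C := conjC (by
      calc n⁻¹ * g * t * (n⁻¹ * g)⁻¹ = n⁻¹ * (g * t * g⁻¹) * n := by group
        _ = t := by rw [← e]; group)
    have := N.mul_mem hn (hC1 this)
    rwa [mul_inv_cancel_left] at this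
  have hb1 : b ≠ 1 := hb ▸ cne1 ht
  have hbW : b ∈ W2 := hb ▸ (mem_normalizer_iff.1 hm0 t).1 h2t
  have hm0N : m0 ∉ N := fun h => by
    rcases hint b (hb ▸ (mem_normalizer_iff.1 h t).1 h1t) hbW with e | e
    exacts [hb1 e, hbt e]
  have hM : ∀ {m : G}, m ∈ normalizer (W2 : Set G) → m ∈ C ∨ ∃ c ∈ C, ∃ c' ∈ C, m = c * m0 * c' := by
    intro m hm
    by_cases e : m * t * m⁻¹ = t
    · exact .inl (conjC e)
    obtain ⟨c, hc, hcb⟩ := hB _ ((mem_normalizer_iff.1 hm t).1 h2t) (cne1 ht) e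
    refine .inr ⟨c, memC.2 hc, (c * m0)⁻¹ * m, conjC ?_, by group⟩
    calc (c * m0)⁻¹ * m * t * ((c * m0)⁻¹ * m)⁻¹ = m0⁻¹ * (c⁻¹ * (m * t * m⁻¹) * c) * m0 := by group
      _ = t := by rw [← hcb, ← hb]; group
  -- the subgroup fixing the second point
  let S : Subgroup G := N ⊓ N.comap (MulAut.conj m0⁻¹).toMonoidHom
  have memS : ∀ {g : G}, g ∈ S ↔ g ∈ N ∧ m0⁻¹ * g * m0 ∈ N := fun {g} => by
    simp [S, mem_inf, mem_comap]
  have hSC : S ⊓ C = C ⊓ centralizer ({b} : Set G) := by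
    ext c
    simp only [mem_inf, memS, mem_centralizer_singleton_iff]
    constructor
    · rintro ⟨⟨-, h2⟩, hc⟩
      refine ⟨hc, mul_inv_eq_iff_eq_mul.1 ?_⟩
      have h3 : m0⁻¹ * c * m0 * t * (m0⁻¹ * c * m0)⁻¹ ∈ W1 := (mem_normalizer_iff.1 h2 t).1 h1t
      have e0 : m0⁻¹ * c * m0 * t * (m0⁻¹ * c * m0)⁻¹ = m0⁻¹ * (c * b * c⁻¹) * m0 := by rw [← hb]; group
      rw [e0] at h3
      have h4 : m0⁻¹ * (c * b * c⁻¹) * m0 ∈ W2 := by
        have := (mem_normalizer_iff.1 ((normalizer (W2 : Set G)).inv_mem hm0) (c * b * c⁻¹)).1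
          ((mem_normalizer_iff.1 (hC2 hc) b).1 hbW)
        rwa [inv_inv] at this
      rcases hint _ h3 h4 with h | h
      · exfalso
        refine cne1 (g := c) hb1 ?_
        calc c * b * c⁻¹ = m0 * (m0⁻¹ * (c * b * c⁻¹) * m0) * m0⁻¹ := by group
          _ = 1 := by rw [h]; group
      · calc c * b * c⁻¹ = m0 * (m0⁻¹ * (c * b * c⁻¹) * m0) * m0⁻¹ := by group
          _ = b := by rw [h, hb]
    · rintro ⟨hc, hcb⟩
      refine ⟨⟨hC1 hc, hC1 (conjC ?_)⟩, hc⟩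
      calc m0⁻¹ * c * m0 * t * (m0⁻¹ * c * m0)⁻¹ = m0⁻¹ * (c * (m0 * t * m0⁻¹) * c⁻¹) * m0 := by group
        _ = m0⁻¹ * (m0 * t * m0⁻¹) * m0 := by rw [hb, hcb, mul_inv_cancel_right]
        _ = t := by group
  -- its orbit on the first group
  have hX1 : (fun h => h * t * h⁻¹) '' (S : Set G)
      = ((W1 ⊓ centralizer ({b} : Set G) : Subgroup G) : Set G) \ {1} := by
    ext u
    simp only [Set.mem_image, SetLike.mem_coe, Set.mem_sdiff, mem_inf, mem_centralizer_singleton_iff,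
      Set.mem_singleton_iff]
    constructor
    · rintro ⟨s, hs, rfl⟩
      have hu : s * t * s⁻¹ ∈ W1 := (mem_normalizer_iff.1 (memS.1 hs).1 t).1 h1t
      have htS : t ∈ S := memS.2 ⟨hC1 (memC.2 rfl), hC1 (memC.2 (hW2c _ (by
        have := (mem_normalizer_iff.1 ((normalizer (W2 : Set G)).inv_mem hm0) t).1 h2t
        rwa [inv_inv] at this)))⟩
      have : s * t * s⁻¹ ∈ S ⊓ C :=
        mem_inf.2 ⟨S.mul_mem (S.mul_mem hs htS) (S.inv_mem hs), memC.2 (hW1c _ hu)⟩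
      rw [hSC] at this
      exact ⟨⟨hu, mem_centralizer_singleton_iff.1 (mem_inf.1 this).2⟩, cne1 ht⟩
    · rintro ⟨⟨hu, hub⟩, hu1⟩
      by_cases hut : u = t
      · exact ⟨1, S.one_mem, by simp [hut]⟩
      obtain ⟨n, hn, v, hv, hv1, hvt, hnu, hnv⟩ := hsup u hu hub hu1 hut
      obtain ⟨c, hc, hcv⟩ := hB v hv hv1 hvt
      refine ⟨n * c, memS.2 ⟨N.mul_mem hn (hC1 (memC.2 hc)), nmem ?_⟩, ?_⟩
      · have e : m0⁻¹ * (n * c) * m0 * t * (m0⁻¹ * (n * c) * m0)⁻¹ = m0⁻¹ * (n * v * n⁻¹) * m0 := by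
          rw [← hcv, ← hb]; group
        rwa [e]
      · calc n * c * t * (n * c)⁻¹ = n * (c * t * c⁻¹) * n⁻¹ := by group
          _ = u := by rw [hc, mul_inv_cancel_right, hnu]
  -- the counts
  have hNC : N ⊓ C = C := inf_eq_right.2 hC1
  have cN : Nat.card ↥N = 15 * Nat.card ↥C := by
    have e : (fun h => h * t * h⁻¹) '' (N : Set G) = (W1 : Set G) \ {1} := by
      ext u
      simp only [Set.mem_image, SetLike.mem_coe, Set.mem_sdiff, Set.mem_singleton_iff]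
      exact ⟨fun ⟨n, hn, e⟩ => e ▸ ⟨(mem_normalizer_iff.1 hn t).1 h1t, cne1 ht⟩, fun ⟨h, h1⟩ => htr u h h1⟩
    rw [orbit_card N t, e, hNC, Set.ncard_diff_singleton_of_mem W1.one_mem, ← Nat.card_coe_set_eq,
      SetLike.coe_sort_coe, hW1]
  have cC : Nat.card ↥C = 14 * Nat.card ↥(C ⊓ centralizer ({b} : Set G)) := by
    have e : (fun h => h * b * h⁻¹) '' (C : Set G) = (W2 : Set G) \ ({1, t} : Set G) := by
      ext u
      simp only [Set.mem_image, SetLike.mem_coe, Set.mem_sdiff, Set.mem_insert_iff, Set.mem_singleton_iff, not_or]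
      constructor
      · rintro ⟨c, hc, rfl⟩
        refine ⟨(mem_normalizer_iff.1 (hC2 hc) b).1 hbW, cne1 hb1, fun h => hbt ?_⟩
        calc b = c⁻¹ * (c * b * c⁻¹) * c := by group
          _ = c⁻¹ * (t * c) := by rw [h, mul_assoc]
          _ = t := by rw [← memC.1 hc, ← mul_assoc, inv_mul_cancel, one_mul]
      · rintro ⟨hu, hu1, hut⟩
        obtain ⟨c, hc, e⟩ := hB u hu hu1 hut
        exact ⟨c, memC.2 hc, e⟩
    rw [orbit_card C b, e, Set.ncard_diff (Set.insert_subset W2.one_mem (Set.singleton_subset_iff.2 h2t)),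
      Set.ncard_pair (Ne.symm ht), ← Nat.card_coe_set_eq, SetLike.coe_sort_coe, hW2]
  have cS : Nat.card ↥S = 7 * Nat.card ↥(C ⊓ centralizer ({b} : Set G)) := by
    rw [orbit_card S t, hX1, hSC, Set.ncard_diff_singleton_of_mem (one_mem _), ← Nat.card_coe_set_eq,
      SetLike.coe_sort_coe, hX]
  -- collinearity is an equivalence
  let inL : G → Prop := fun g => g ∈ N ∨ ∃ a ∈ N, ∃ a' ∈ N, g = a * m0 * a'
  have hl : ∀ {a g : G}, a ∈ N → inL g → inL (a * g) := by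
    rintro a g ha (h | ⟨p, hp, q, hq, rfl⟩)
    · exact .inl (N.mul_mem ha h)
    · exact .inr ⟨a * p, N.mul_mem ha hp, q, hq, by group⟩
  have hr : ∀ {a g : G}, a ∈ N → inL g → inL (g * a) := by
    rintro a g ha (h | ⟨p, hp, q, hq, rfl⟩)
    · exact .inl (N.mul_mem h ha)
    · exact .inr ⟨p, hp, q * a, N.mul_mem hq ha, by group⟩
  have hML : ∀ {m : G}, m ∈ normalizer (W2 : Set G) → inL m := fun {m} hm => by
    rcases hM hm with h | ⟨c, hc, c', hc', e⟩
    · exact .inl (hC1 h)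
    · exact .inr ⟨c, hC1 hc, c', hC1 hc', e⟩
  obtain ⟨c₁, hc₁, c₂, hc₂, hinv⟩ : ∃ c ∈ C, ∃ c' ∈ C, m0⁻¹ = c * m0 * c' := by
    refine (hM ((normalizer (W2 : Set G)).inv_mem hm0)).resolve_left fun h => hm0N ?_
    exact hC1 (inv_inv m0 ▸ C.inv_mem h)
  have key : ∀ k ∈ N, inL (m0⁻¹ * k * m0) := by
    intro k hk
    set X := W1 ⊓ centralizer ({b} : Set G) with hXdef
    let f : ↥X × ↥X → ↥W1 := fun p => ⟨(p.1 : G) * (k * p.2 * k⁻¹),
      W1.mul_mem (mem_inf.1 p.1.2).1 ((mem_normalizer_iff.1 hk _).1 (mem_inf.1 p.2.2).1)⟩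
    obtain ⟨⟨u, v⟩, ⟨u', v'⟩, e, hne⟩ : ∃ p q, f p = f q ∧ p ≠ q := by
      by_contra h
      simp only [not_exists, not_and, not_not] at h
      have := Nat.card_le_card_of_injective f fun p q e => h p q e
      rw [Nat.card_prod, hX, hW1] at this
      omega
    have e' : (u : G) * (k * v * k⁻¹) = u' * (k * v' * k⁻¹) := congrArg Subtype.val e
    set x := (u' : G)⁻¹ * u with hx
    have hxv : x = k * ((v' : G) * (v : G)⁻¹) * k⁻¹ := by
      calc x = (u' : G)⁻¹ * ((u : G) * (k * v * k⁻¹)) * (k * v * k⁻¹)⁻¹ := by rw [hx]; group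
        _ = k * ((v' : G) * (v : G)⁻¹) * k⁻¹ := by rw [e']; group
    have hx1 : x ≠ 1 := by
      intro h
      refine hne (Prod.ext ?_ ?_)
      · exact Subtype.ext (inv_mul_eq_one.1 (hx ▸ h)).symm
      · refine Subtype.ext ?_
        rw [hxv, mul_inv_eq_one, mul_eq_left, mul_inv_eq_one] at h
        exact h.symm
    have hw1 : (v' : G) * (v : G)⁻¹ ≠ 1 := fun h => hx1 (by rw [hxv, h]; group)
    obtain ⟨s, hs, es⟩ : x ∈ (fun h => h * t * h⁻¹) '' (S : Set G) :=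
      hX1 ▸ ⟨X.mul_mem (X.inv_mem u'.2) u.2, hx1⟩
    obtain ⟨s', hs', es'⟩ : (v' : G) * (v : G)⁻¹ ∈ (fun h => h * t * h⁻¹) '' (S : Set G) :=
      hX1 ▸ ⟨X.mul_mem v'.2 (X.inv_mem v.2), hw1⟩
    beta_reduce at es es'
    have hc : s⁻¹ * k * s' ∈ C := conjC (by
      calc s⁻¹ * k * s' * t * (s⁻¹ * k * s')⁻¹ = s⁻¹ * (k * (s' * t * s'⁻¹) * k⁻¹) * s := by group
        _ = t := by rw [es', ← hxv, ← es]; group)
    have e2 : m0⁻¹ * k * m0
        = m0⁻¹ * s * m0 * (m0⁻¹ * (s⁻¹ * k * s') * m0) * (m0⁻¹ * s'⁻¹ * m0) := by group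
    rw [e2]
    refine hr (memS.1 (S.inv_mem hs')).2 (hl (memS.1 hs).2 (hML ?_))
    exact mul_mem (mul_mem (inv_mem hm0) (hC2 hc)) hm0
  let L : Subgroup G :=
    { carrier := {g | inL g}
      one_mem' := .inl N.one_mem
      mul_mem' := by
        rintro g h hg (hh | ⟨p, hp, q, hq, rfl⟩)
        · exact hr hh hg
        rcases hg with hg | ⟨a, ha, a', ha', rfl⟩
        · exact hl hg (.inr ⟨p, hp, q, hq, rfl⟩)
        have em : m0 = c₁⁻¹ * m0⁻¹ * c₂⁻¹ := by rw [hinv]; group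
        have e : a * m0 * a' * (p * m0 * q) = (a * c₁⁻¹) * (m0⁻¹ * (c₂⁻¹ * a' * p) * m0) * q := by
          conv_lhs => arg 1; rw [em]
          group
        show inL _
        rw [e]
        exact hr hq (hl (N.mul_mem ha (N.inv_mem (hC1 hc₁)))
          (key _ (N.mul_mem (N.mul_mem (N.inv_mem (hC1 hc₂)) ha') hp)))
      inv_mem' := by
        rintro g (hg | ⟨a, ha, a', ha', rfl⟩)
        · exact .inl (N.inv_mem hg)
        refine .inr ⟨a'⁻¹ * c₁, N.mul_mem (N.inv_mem ha') (hC1 hc₁), c₂ * a⁻¹,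
          N.mul_mem (hC1 hc₂) (N.inv_mem ha), ?_⟩
        rw [mul_inv_rev, mul_inv_rev, hinv]; group }
  have hNL : N ≤ L := fun g hg => Or.inl hg
  -- thirty-one cosets
  let K := N.subgroupOf L
  letI : MulAction ↥N (↥L ⧸ K) := MulAction.compHom _ (inclusion hNL)
  have hmL : m0 ∈ L := Or.inr ⟨1, N.one_mem, 1, N.one_mem, by group⟩
  set q0 : ↥L ⧸ K := QuotientGroup.mk ⟨m0, hmL⟩
  set base : ↥L ⧸ K := QuotientGroup.mk 1
  have hcover : (Set.univ : Set (↥L ⧸ K)) = insert base (MulAction.orbit ↥N q0) := by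
    refine (Set.eq_univ_of_forall fun q => ?_).symm
    obtain ⟨⟨g, hg⟩, rfl⟩ := QuotientGroup.mk_surjective q
    rcases hg with h | ⟨a, ha, a', ha', rfl⟩
    · refine Set.mem_insert_iff.2 (.inl (QuotientGroup.eq.2 ?_))
      rw [mem_subgroupOf]
      simpa using N.inv_mem h
    · refine Set.mem_insert_iff.2 (.inr ⟨⟨a, ha⟩, ?_⟩)
      show (QuotientGroup.mk (inclusion hNL ⟨a, ha⟩ * ⟨m0, hmL⟩) : ↥L ⧸ K) = _
      refine QuotientGroup.eq.2 ?_
      rw [mem_subgroupOf]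
      simpa [mul_assoc] using ha'
  have hbase : base ∉ MulAction.orbit ↥N q0 := by
    rintro ⟨⟨a, ha⟩, e⟩
    change (QuotientGroup.mk (inclusion hNL ⟨a, ha⟩ * ⟨m0, hmL⟩) : ↥L ⧸ K) = _ at e
    have := QuotientGroup.eq.1 e
    rw [mem_subgroupOf] at this
    have h' : (a * m0)⁻¹ ∈ N := by simpa using this
    exact hm0N (by simpa using N.mul_mem (N.inv_mem ha) (N.inv_mem h'))
  have hstab : MulAction.stabilizer ↥N q0 = S.subgroupOf N := by
    ext ⟨a, ha⟩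
    rw [MulAction.mem_stabilizer_iff, mem_subgroupOf, memS]
    show (QuotientGroup.mk (inclusion hNL ⟨a, ha⟩ * ⟨m0, hmL⟩) : ↥L ⧸ K) = QuotientGroup.mk _ ↔ _
    rw [QuotientGroup.eq, mem_subgroupOf]
    show (a * m0)⁻¹ * m0 ∈ N ↔ a ∈ N ∧ m0⁻¹ * a * m0 ∈ N
    rw [← N.inv_mem_iff (x := m0⁻¹ * a * m0), show (a * m0)⁻¹ * m0 = (m0⁻¹ * a * m0)⁻¹ by group]
    exact ⟨fun h => ⟨ha, h⟩, fun h => h.2⟩
  have hcard : Nat.card (MulAction.orbit ↥N q0) = 30 := by
    have h := Nat.card_congr (MulAction.orbitProdStabilizerEquivGroup ↥N q0)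
    rw [Nat.card_prod, hstab, Nat.card_congr (subgroupOfEquivOfLe (inf_le_left : S ≤ N)).toEquiv, cS, cN, cC] at h
    have hpos := Nat.card_pos (α := ↥(C ⊓ centralizer ({b} : Set G)))
    refine Nat.eq_of_mul_eq_mul_right (by omega : 0 < 7 * Nat.card ↥(C ⊓ centralizer ({b} : Set G))) ?_
    rw [h]; ring
  have h31 : Nat.card (↥L ⧸ K) = 31 := by
    rw [← Set.ncard_univ, hcover, Set.ncard_insert_of_notMem hbase, ← Nat.card_coe_set_eq, hcard]
  have := L.card_subgroup_dvd_card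
  rw [card_eq_card_quotient_mul_card_subgroup K, h31] at this
  exact (Dvd.intro _ rfl).trans this

end CfsgLib.HeType.Cert.Geom
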