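import Cfsg.Agent.Lib.HeType.Cert.AutCheck
import Cfsg.Agent.Lib.HeType.Coords.Swap
import Cfsg.Agent.Lib.HeType.Local.Classes

/-!
Kernel checks of the two elementary groups, of the outer symmetry on codes, and of the local data for the exclusion
of the other automorphism types.
-/

set_option autoImplicit false
set_option maxRecDepth 100000
set_option Elab.async false

namespace CfsgLib.HeType.Cert.Aut

open Local

/-- The first elementary group. -/
def w1L : List ℕ := [0, 1, 2, 3, 4, 5, 6, 7, 64, 65, 66, 67, 68, 69, 70, 71]

/-- The second elementary group. -/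
def w2L : List ℕ := [0, 8, 16, 24, 32, 40, 48, 56, 64, 72, 80, 88, 96, 104, 112, 120]

/-- The images of the three further generators under the outer symmetry. -/
def swL : List ℕ := [10496, 256, 448]

/-- The outer symmetry on codes. -/
def piC (c : ℕ) : ℕ :=
  mm (qAut swapP (c % 128)) ((lPaths.getD (c / 128) []).foldl (fun r k => mm r (swL.getD k 0)) 0)

/-- The code is sent to the image by a table. -/
def sends (psi : List (List ℕ)) (c d : ℕ) : Bool := (List.range 1536).any fun i => code i == c && bg psi i == d

/-- An elementary group on codes. -/
def wOk (L : List ℕ) : Bool :=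
  (L.all fun c => decide (c < 21504) && mm c c == 0 && mm c 64 == mm 64 c && L.all fun d => L.contains (mm c d)) &&
    L.contains 0 && L.contains 64 &&
    ((List.range 128 ++ [128, 256, 384]).all fun g => L.all fun w => L.any fun w' => mm g w == mm w' g)

/-- Conjugators in the centraliser moving the first generator over the first group. -/
def trA : List (ℕ × ℕ) := [(1, 0), (2, 128), (3, 1536), (4, 512), (5, 5248), (6, 2432), (7, 4096), (65, 8), (66, 144), (67, 1544), 
  (68, 544), (69, 5256), (70, 2448), (71, 4104)]

/-- Conjugators in the centraliser moving the first generator over the second group. -/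
def trB : List (ℕ × ℕ) := [(8, 0), (16, 128), (24, 2178), (32, 512), (40, 1536), (48, 3844), (56, 1281), (72, 1), (80, 129), (88, 
  2176), (96, 513), (104, 1538), (112, 3840), (120, 1280)]

/-- The incidences: code, conjugator, code of the second group, code of the exchanged first group. -/
def incT : List (ℕ × ℕ × ℕ × ℕ) := [(2, 128, 40, 40), (4, 512, 48, 48), (6, 2432, 48, 24), (66, 144, 40, 104), (68, 544, 48, 112), (70, 
  2448, 48, 88)]

/-- Generators of the centraliser of a representative. -/
def centG : List ℕ := [6, 8, 32, 64, 385, 4610, 12931]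

/-- The centre of that centraliser. -/
def centZ : List ℕ := [0, 40, 64, 104, 385, 425, 449, 489]

/-- The class of a code. -/
def inCls (c i : ℕ) : Bool := invs0T.any fun w => w.1 == c && w.2.1 == i

theorem w1_ok : wOk w1L = true ∧ w1L.Nodup := by decide +kernel

theorem w2_ok : wOk w2L = true ∧ w2L.Nodup := by decide +kernel

theorem w_int : (w1L.all fun c => !w2L.contains c || c == 0 || c == 64) = true := by decide +kernel

theorem sw_ok : mm 128 10496 = 0 ∧ mm 64 384 = 448 ∧ piC 1 = 8 ∧ piC 8 = 1 ∧
    (w1L.all fun c => w2L.contains (piC c) && w2L.any fun d => piC d == c) = true ∧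
    (w2L.all fun c => w1L.contains (piC c) && w1L.any fun d => piC d == c) = true := by decide +kernel

theorem m1_w : (w1L.all fun c => (List.range 1536).any fun i =>
    code i == c && w1L.contains (bg psiM1 i)) = true := by decide +kernel

theorem m2_w : (w1L.all fun c => (List.range 1536).any fun i =>
    code i == c && w1L.contains (bg psiM2 i)) = true := by decide +kernel

theorem m_edges : (sends psiM1 14488 93 && sends psiM1 14491 24 && sends psiM2 14488 93 && sends psiM2 14491 24 &&
    inCls 14488 4 && inCls 93 2 && inCls 14491 5 && inCls 24 1) = true := by decide +kernel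

theorem trA_ok : (w1L.all fun c => c == 0 || c == 64 || trA.any fun p =>
    p.1 == c && decide (p.2 < 21504) && mm p.2 1 == mm c p.2) = true := by decide +kernel

theorem trB_ok : (w2L.all fun c => c == 0 || c == 64 || trB.any fun p =>
    p.1 == c && decide (p.2 < 21504) && mm p.2 8 == mm c p.2) = true := by decide +kernel

theorem inc_ok : (w1L.all fun c => !(mm c 8 == mm 8 c) || c == 0 || c == 64 || incT.any fun q =>
    q.1 == c && decide (q.2.1 < 21504) && mm q.2.1 1 == mm c q.2.1 && w2L.contains q.2.2.1 &&
      !(q.2.2.1 == 0) && !(q.2.2.1 == 64) && w2L.contains q.2.2.2 &&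
      (List.range 1536).any fun i => code i == q.2.2.1 && (List.range 1536).any fun j => code j == q.2.2.2 &&
        mm q.2.1 (bg psiM1 i) == mm (piC (bg psiM1 j)) q.2.1) = true := by decide +kernel

theorem x_card : (w1L.filter fun c => mm c 8 == mm 8 c).length = 8 := by decide +kernel

theorem cube_he : sends psiHe 19502 16413 = true ∧ sends psiHe 16413 14578 = true ∧
    mm (mm 14578 16413) 19502 = 0 ∧ mm 19502 1 = mm 1 19502 := by decide +kernel

theorem cent_gens : (centG.all fun g => decide (g < 21504) && mm g 385 == mm 385 g) = true := by decide +kernel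

theorem cent_forty : ((List.range 21504).all fun c => !(mm c 385 == mm 385 c) || mm c 40 == mm 40 c) = true := by
  decide +kernel

theorem cent_all : ((List.range 21504).all fun c =>
    !(centG.all fun g => mm c g == mm g c) || centZ.contains c) = true := by decide +kernel

theorem cent_cls : (centZ.all fun z => z == 0 || z == 64 || z == 40 || z == 104 || inCls z 3) = true ∧
    mm 64 40 = 104 ∧ mm 40 40 = 0 ∧ mm 385 385 = 0 ∧ inCls 40 1 = true ∧ inCls 104 1 = true := by decide +kernel

end CfsgLib.HeType.Cert.Aut
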