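import Cfsg.Agent.Lib.HeType.Cert.AutSub
import Cfsg.Agent.Lib.HeType.Cert.AutGeometry

/-!
# The automorphism of the joint centraliser in a group of the order of the Held group

Given the possible types of an element carrying the central involution to the first generator, the order leaves
only the Held type, in the given or the exchanged coordinates.
-/

set_option autoImplicit false
set_option linter.unusedSectionVars false
set_option maxRecDepth 20000

namespace CfsgLib.HeType.Cert.Aut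

open Local

variable {G : Type*} [Group G] [Finite G] {t : G}

/-- The three generators are conjugated as given. -/
def Imgs (el : ℕ → G) (s : G) (im : List ℕ) : Prop :=
  ∀ k < 3, s * el (gens.getD k 0) = el (im.getD k 0) * s

/-- An element of one of the three types. -/
def Side (t : G) (el : ℕ → G) : Prop :=
  ∃ s, s * t * s⁻¹ = el 1 ∧ s ^ 3 = 1 ∧ ((Imgs el s [256, 486, 16453] ∧ IsConj t (el 8)) ∨
    Imgs el s [256, 14609, 19527] ∨ (Imgs el s [256, 14672, 19527] ∧ ¬ IsConj t (el 8)))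

variable {Q : Subgroup G} {x y r : G} {a b : ℕ → G}

/-- Change to the normal form of the Held automorphism by an inner element. -/
theorem he_normal (C : Coords t Q [65, 4, 2, 72, 120, 96] true x y r a b) {s : G}
    (hst : s * t * s⁻¹ = cEl t a b x y r 1) (hs3 : s ^ 3 = 1)
    (hs : Imgs (cEl t a b x y r) s [256, 486, 16453]) :
    ∃ u : G, u ^ 3 = 1 ∧ u * t * u⁻¹ = cEl t a b x y r 1 ∧ ∀ i < 1536, code i < 21504 ∧ bg psiHe i < 21504 ∧
      u * cEl t a b x y r (code i) = cEl t a b x y r (bg psiHe i) * u := by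
  have K := code0 C
  obtain ⟨h1, h2, h3, h4⟩ := cube_he
  have hd : (19502 : ℕ) < 21504 := by norm_num
  have him : ∀ k < 3, ([20829, 398, 16453] : List ℕ).getD k 0 < 21504 := by
    intro k hk; interval_cases k <;> simp
  have hu : Imgs (cEl t a b x y r) (cEl t a b x y r 19502 * s) [20829, 398, 16453] := by
    intro k hk
    have e := inner_he
    simp only [List.zip_cons_cons, List.zip_nil_right, List.all_cons, List.all_nil, Bool.and_true,
      Bool.and_eq_true, beq_iff_eq] at e
    have hm : mm 19502 (([256, 486, 16453] : List ℕ).getD k 0)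
        = mm (([20829, 398, 16453] : List ℕ).getD k 0) 19502 := by
      interval_cases k <;> simp only [List.getD_cons_zero, List.getD_cons_succ]
      exacts [e.1, e.2.1, e.2.2]
    have hb : ([256, 486, 16453] : List ℕ).getD k 0 < 21504 := by interval_cases k <;> simp
    rw [mul_assoc, hs k hk, ← mul_assoc, K.mul _ hd _ hb, hm, ← K.mul _ (him k hk) _ hd, mul_assoc]
  have T := table K tree_he him hu
  obtain ⟨i, hi, ei, ei'⟩ := of_sends h1
  obtain ⟨j, hj, ej, ej'⟩ := of_sends h2
  have E1 : cEl t a b x y r 19502 * s * cEl t a b x y r 19502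
      = cEl t a b x y r 16413 * (cEl t a b x y r 19502 * s) := by
    have := (T i hi).2.2; rwa [ei, ei'] at this
  have E2 : cEl t a b x y r 19502 * s * cEl t a b x y r 16413
      = cEl t a b x y r 14578 * (cEl t a b x y r 19502 * s) := by
    have := (T j hj).2.2; rwa [ej, ej'] at this
  refine ⟨cEl t a b x y r 19502 * s, ?_, ?_, T⟩
  · have e : cEl t a b x y r 14578 * cEl t a b x y r 16413 * cEl t a b x y r 19502 = 1 := by
      rw [K.mul _ (by norm_num) _ (by norm_num), K.mul _ (K.lt _ (by norm_num) _ (by norm_num)) _ hd, h3, K.el_zero]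
    have hs' : s * s * s = 1 := by rw [← hs3, pow_succ, pow_two]
    generalize cEl t a b x y r 19502 = d at *
    generalize cEl t a b x y r 16413 = p at *
    generalize cEl t a b x y r 14578 = q at *
    -- s = d⁻¹ u
    have e1 : d * s * d⁻¹ = p⁻¹ * (d * s) := by
      calc d * s * d⁻¹ = p⁻¹ * (p * (d * s)) * d⁻¹ := by group
        _ = p⁻¹ * (d * s) := by rw [← E1]; group
    have e2 : d * s * p⁻¹ = q⁻¹ * (d * s) := by
      calc d * s * p⁻¹ = q⁻¹ * (q * (d * s)) * p⁻¹ := by group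
        _ = q⁻¹ * (d * s) := by rw [← E2]; group
    calc (d * s) ^ 3 = q * p * d * (d⁻¹ * p⁻¹ * (q⁻¹ * (d * s)) * (d * s) * (d * s)) := by
          rw [pow_succ, pow_two]; group
      _ = q * p * d * (d⁻¹ * (p⁻¹ * (d * s)) * p⁻¹ * (d * s) * (d * s)) := by rw [← e2]; group
      _ = q * p * d * (d⁻¹ * (d * s * d⁻¹) * p⁻¹ * (d * s) * (d * s)) := by rw [← e1]
      _ = q * p * d * (s * d⁻¹ * (p⁻¹ * (d * s)) * (d * s)) := by group
      _ = q * p * d * (s * d⁻¹ * (d * s * d⁻¹) * (d * s)) := by rw [← e1]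
      _ = q * p * d * (s * s * s) := by group
      _ = 1 := by rw [e, hs', one_mul]
  · calc cEl t a b x y r 19502 * s * t * (cEl t a b x y r 19502 * s)⁻¹
        = cEl t a b x y r 19502 * (s * t * s⁻¹) * (cEl t a b x y r 19502)⁻¹ := by group
      _ = cEl t a b x y r 1 := by
          rw [hst, K.mul _ hd _ (by norm_num), h4, ← K.mul _ (by norm_num) _ hd, mul_inv_cancel_right]

theorem val_facts : (reps0T.all fun r => reps0T.all fun r' =>
    !(r.2.1 == r'.2.2 && r.2.2 == r'.2.1) || (!(r.2 == (16, 0)) && (!(r.2 == (8, 8)) || r'.2 == (8, 8)))) = true := by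
  decide +kernel

/-- The last class is not fused. -/
theorem not_fused_last (C : Coords t Q [65, 4, 2, 72, 120, 96] true x y r a b) :
    ¬ IsConj t (cEl t a b x y r 423) := by
  intro hc
  have K := code0 C
  have hv := (K.rep_lt count0T (r := (423, 16, 0)) (by decide +kernel)).2
  have hi := inv_code K (show 423 < 21504 by norm_num) (by decide +kernel) (by norm_num) (by norm_num)
  obtain ⟨g, -, hi', -, hs⟩ := exists_swap C.order_t hi hc
  obtain ⟨r, hr, r', hr', hv1, -, e1, e2⟩ := K.swap_vals complete0T conj0T count0T hi hi' hs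
  have hr2 : r.2 = (16, 0) := Prod.ext (hv1.1.symm.trans hv.1) (hv1.2.symm.trans hv.2)
  have := List.all_eq_true.1 (List.all_eq_true.1 val_facts r hr) r' hr'
  rw [hr2] at e1 e2
  simp [hr2, ← e1, ← e2] at this

/-- An involution central beside one of the fourth class forbids its fusion. -/
theorem not_fused_centre (C : Coords t Q [65, 4, 2, 72, 120, 96] true x y r a b)
    (hb : ¬ IsConj t (cEl t a b x y r 8)) (h4 : ¬ IsConj t (cEl t a b x y r 392)) :
    ¬ IsConj t (cEl t a b x y r 385) := by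
  intro hc
  have K := code0 C
  obtain ⟨hcls, hm40, h40, h385, hc40, hc104⟩ := cent_cls
  have hv := (K.rep_lt count0T (r := (385, 8, 8)) (by decide +kernel)).2
  have hi := inv_code K (show 385 < 21504 by norm_num) h385 (by norm_num) (by norm_num)
  obtain ⟨g, eg, hi', hct', hs⟩ := exists_swap C.order_t hi hc
  obtain ⟨rr, hrr, rr', hrr', hv1, hv2, e1, e2⟩ := K.swap_vals complete0T conj0T count0T hi hi' hs
  have hr2 : rr.2 = (8, 8) := Prod.ext (hv1.1.symm.trans hv.1) (hv1.2.symm.trans hv.2)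
  have hr2' : rr'.2 = (8, 8) := by
    have := List.all_eq_true.1 (List.all_eq_true.1 val_facts rr hrr) rr' hrr'
    rw [hr2] at e1 e2
    simpa [hr2, ← e1, ← e2] using this
  obtain ⟨i, hi7, hvi, k, hk, ek⟩ := exists_rep K hi'
  have he : (reps0T.getD i (0, 0, 0)).2 = (8, 8) := by
    rw [← hr2']; exact Prod.ext (hvi.1.symm.trans hv2.1) (hvi.2.symm.trans hv2.2)
  have hkt : k * t * k⁻¹ = t := by rw [hk, mul_inv_cancel_right]
  have hi3 : i = 3 ∨ i = 4 := by interval_cases i <;> simp [reps0T] at he ⊢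
  rcases hi3 with rfl | rfl
  swap
  · exact h4 (hct'.trans (ek.symm ▸ (isConj_iff.2 ⟨k, rfl⟩ : IsConj (cEl t a b x y r 392) _)).symm)
  -- an element exchanging the two involutions
  set h := k⁻¹ * g with hhdef
  have hxt : h * cEl t a b x y r 385 * h⁻¹ = t := by
    calc h * cEl t a b x y r 385 * h⁻¹ = k⁻¹ * (g * cEl t a b x y r 385 * g⁻¹) * k := by rw [hhdef]; group
      _ = k⁻¹ * (k * t * k⁻¹) * k := by rw [eg, hkt]
      _ = t := by group
  have htx : h * t * h⁻¹ = cEl t a b x y r 385 := by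
    calc h * t * h⁻¹ = k⁻¹ * (g * t * g⁻¹) * k := by rw [hhdef]; group
      _ = cEl t a b x y r 385 := by rw [ek]; simp [reps0T, mul_assoc]
  have h40lt : (40 : ℕ) < 21504 := by norm_num
  have hcomm : cEl t a b x y r 385 * cEl t a b x y r 40 = cEl t a b x y r 40 * cEl t a b x y r 385 :=
    (K.comm_iff (by norm_num) h40lt).2 (by decide +kernel)
  have hz : h * cEl t a b x y r 40 * h⁻¹ * t = t * (h * cEl t a b x y r 40 * h⁻¹) := by
    have := conj_comm h hcomm.symm
    rwa [hxt] at this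
  obtain ⟨c, hcl, ec⟩ := K.surj _ hz
  have hcZ : c ∈ centZ := by
    have hall := List.all_eq_true.1 cent_all c (List.mem_range.2 hcl)
    simp only [Bool.or_eq_true, Bool.not_eq_true', List.all_eq_false, beq_iff_eq, List.contains_iff_mem] at hall
    refine hall.resolve_left ?_
    rintro ⟨u, hu, hne⟩
    have hu' := List.all_eq_true.1 cent_gens u hu
    simp only [Bool.and_eq_true, decide_eq_true_eq, beq_iff_eq] at hu'
    apply hne
    refine (K.comm_iff hcl hu'.1).1 ?_
    rw [ec]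
    set e := h⁻¹ * cEl t a b x y r u * h with he'
    have eu : cEl t a b x y r u = h * e * h⁻¹ := by rw [he']; group
    have cb : ∀ {u v w : G}, h * v * h⁻¹ = w → u * w = w * u → h⁻¹ * u * h * v = v * (h⁻¹ * u * h) := by
      intro u v w hw huw
      calc h⁻¹ * u * h * v = h⁻¹ * (u * (h * v * h⁻¹)) * h := by group
        _ = h⁻¹ * (h * v * h⁻¹ * u) * h := by rw [hw, huw]
        _ = v * (h⁻¹ * u * h) := by group
    have a1 : e * t = t * e := cb htx ((K.comm_iff hu'.1 (by norm_num)).2 hu'.2)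
    have a2 : e * cEl t a b x y r 385 = cEl t a b x y r 385 * e := cb hxt (K.mem u hu'.1)
    obtain ⟨d, hdl, ed⟩ := K.surj e a1
    rw [← ed] at a2
    have hd40 := List.all_eq_true.1 cent_forty d (List.mem_range.2 hdl)
    simp only [(K.comm_iff hdl (by norm_num)).1 a2, beq_self_eq_true, Bool.not_true, Bool.false_or,
      beq_iff_eq] at hd40
    rw [eu, ← ed]
    exact (conj_comm h ((K.comm_iff hdl h40lt).2 hd40)).symm
  have hnc : ∀ {w}, inCls w 1 = true → ¬ IsConj t (cEl t a b x y r w) := fun {w} hw e =>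
    hb (e.trans (mem_cls K hw).2.symm)
  have h3c : ∀ {w}, inCls w 3 = true → IsConj t (cEl t a b x y r w) := fun {w} hw => hc.trans (mem_cls K hw).2
  have hbad1 : ¬ IsConj t (cEl t a b x y r c) := fun e =>
    hnc hc40 (e.trans (ec ▸ (isConj_iff.2 ⟨h, rfl⟩ : IsConj (cEl t a b x y r 40) _)).symm)
  have hne : c ≠ 0 := fun e => by
    rw [e, K.el_zero, eq_comm, mul_inv_eq_one, mul_eq_left] at ec
    exact absurd (K.inj 40 h40lt 0 (by norm_num) (ec.trans K.el_zero.symm)) (by norm_num)
  have hz' := List.all_eq_true.1 cent_cls.1 c hcZ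
  simp only [Bool.or_eq_true, beq_iff_eq] at hz'
  have hpair : c = 40 ∨ c = 104 := by
    rcases hz' with (((h' | h') | h') | h') | h'
    · exact absurd h' hne
    · exact absurd (h' ▸ K.el_top.symm ▸ IsConj.refl t) hbad1
    · exact .inl h'
    · exact .inr h'
    · exact absurd (h3c h') hbad1
  -- the partner is carried to a conjugate of the central involution
  have hc3 : inCls (mm 385 c) 3 = true := by rcases hpair with rfl | rfl <;> decide +kernel
  refine hnc hc104 ((h3c hc3).trans ?_)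
  refine IsConj.symm (isConj_iff.2 ⟨h, ?_⟩)
  calc h * cEl t a b x y r 104 * h⁻¹ = h * (t * cEl t a b x y r 40) * h⁻¹ := by
        rw [← hm40, ← K.mul 64 (by norm_num) 40 h40lt, K.el_top]
    _ = h * t * h⁻¹ * (h * cEl t a b x y r 40 * h⁻¹) := by group
    _ = _ := by rw [htx, ← ec, K.mul _ (by norm_num) _ hcl]

/-- What a table of the other types gives. -/
theorem of_m_table (C : Coords t Q [65, 4, 2, 72, 120, 96] true x y r a b) {s : G} {psi : List (List ℕ)}
    (T : ∀ i < 1536, code i < 21504 ∧ bg psi i < 21504 ∧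
      s * cEl t a b x y r (code i) = cEl t a b x y r (bg psi i) * s)
    (he : sends psi 14488 93 = true ∧ sends psi 14491 24 = true) :
    ¬ IsConj t (cEl t a b x y r 392) ∧ (IsConj t (cEl t a b x y r 393) → IsConj t (cEl t a b x y r 8)) := by
  have K := code0 C
  have h := m_edges
  simp only [Bool.and_eq_true] at h
  obtain ⟨⟨⟨⟨-, c4⟩, c2⟩, c5⟩, c1⟩ := h
  have conj : ∀ {u v}, sends psi u v = true → IsConj (cEl t a b x y r u) (cEl t a b x y r v) := by
    intro u v huv
    obtain ⟨i, hi, rfl, rfl⟩ := of_sends huv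
    exact isConj_iff.2 ⟨s, by rw [(T i hi).2.2, mul_inv_cancel_right]⟩
  refine ⟨fun hc => ?_, fun hc => ?_⟩
  · exact not_fused_42 C (((hc.trans (mem_cls K c4).2).trans (conj he.1)).trans (mem_cls K c2).2.symm)
  · exact ((hc.trans (mem_cls K c5).2).trans (conj he.2)).trans (mem_cls K c1).2.symm

/-- The table normalises the first group and moves `t` over it. -/
theorem first_group (C : Coords t Q [65, 4, 2, 72, 120, 96] true x y r a b) {s : G} {psi : List (List ℕ)}
    (hst : s * t * s⁻¹ = cEl t a b x y r 1)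
    (T : ∀ i < 1536, code i < 21504 ∧ bg psi i < 21504 ∧
      s * cEl t a b x y r (code i) = cEl t a b x y r (bg psi i) * s)
    (hw : (w1L.all fun c => (List.range 1536).any fun i => code i == c && w1L.contains (bg psi i)) = true)
    {W : Subgroup G} (hmem : ∀ g, g ∈ W ↔ ∃ c ∈ w1L, cEl t a b x y r c = g)
    (hC : Subgroup.centralizer ({t} : Set G) ≤ Subgroup.normalizer (W : Set G)) :
    s ∈ Subgroup.normalizer (W : Set G) ∧
      ∀ u ∈ W, u ≠ 1 → ∃ n ∈ Subgroup.normalizer (W : Set G), n * t * n⁻¹ = u := by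
  have K := code0 C
  have hsN : s ∈ Subgroup.normalizer (W : Set G) := by
    refine Subgroup.mem_normalizer_fintype fun u hu => ?_
    obtain ⟨c, hc, rfl⟩ := (hmem u).1 hu
    have h := List.all_eq_true.1 hw c hc
    simp only [List.any_eq_true, List.mem_range, Bool.and_eq_true, beq_iff_eq, List.contains_iff_mem] at h
    obtain ⟨i, hi, rfl, hi'⟩ := h
    exact (hmem _).2 ⟨_, hi', eq_mul_inv_iff_mul_eq.2 (T i hi).2.2.symm⟩
  refine ⟨hsN, fun u hu hu1 => ?_⟩
  obtain ⟨c, hc, rfl⟩ := (hmem u).1 hu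
  by_cases h64 : c = 64
  · exact ⟨1, one_mem _, by rw [h64, K.el_top]; simp⟩
  have h := List.all_eq_true.1 trA_ok c hc
  simp only [Bool.or_eq_true, beq_iff_eq, List.any_eq_true, Bool.and_eq_true, decide_eq_true_eq] at h
  obtain ⟨p, -, ⟨rfl, hd⟩, e⟩ := (h.resolve_left fun e => e.elim (fun e => hu1 (e ▸ K.el_zero)) h64)
  refine ⟨cEl t a b x y r p.2 * s, mul_mem (hC (Subgroup.mem_centralizer_singleton_iff.2 (K.mem _ hd))) hsN, ?_⟩
  have hcl : p.1 < 21504 := by
    have : ∀ c ∈ w1L, c < 21504 := by decide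
    exact this _ hc
  calc cEl t a b x y r p.2 * s * t * (cEl t a b x y r p.2 * s)⁻¹
      = cEl t a b x y r p.2 * (s * t * s⁻¹) * (cEl t a b x y r p.2)⁻¹ := by group
    _ = _ := by rw [hst, K.mul _ hd _ (by norm_num), e, ← K.mul _ hcl _ hd, mul_inv_cancel_right]

/-- The two other types need the second group fused. -/
theorem fused_second (C : Coords t Q [65, 4, 2, 72, 120, 96] true x y r a b) (hG : Nat.card G = 4030387200)
    {s : G} (hst : s * t * s⁻¹ = cEl t a b x y r 1) {psi : List (List ℕ)}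
    (T : ∀ i < 1536, code i < 21504 ∧ bg psi i < 21504 ∧
      s * cEl t a b x y r (code i) = cEl t a b x y r (bg psi i) * s)
    (hw : (w1L.all fun c => (List.range 1536).any fun i => code i == c && w1L.contains (bg psi i)) = true)
    (he : sends psi 14488 93 = true ∧ sends psi 14491 24 = true) :
    IsConj t (b 0) := by
  by_contra hb
  rw [← el_eight C] at hb
  have K := code0 C
  obtain ⟨h392, h393⟩ := of_m_table C T he
  obtain ⟨W, hmem, hcard, htW, -, hWc, hC⟩ := exists_sub C w1_ok.1 w1_ok.2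
  obtain ⟨hsN, htr⟩ := first_group C hst T hw hmem hC
  refine socle_false C.order_t (W := W) (by rw [hcard]; rfl) htW hWc ?_ ?_ (n := 12495)
    (by rw [hG, C.cardC]) (by norm_num)
  · intro u hu hu1
    obtain ⟨n, -, e⟩ := htr u hu hu1
    exact isConj_iff.2 ⟨n, e⟩
  · intro u hu hc
    by_cases hut : u = t
    · rwa [hut]
    have hu1 : u ≠ 1 := fun e => C.frame.t_ne (isConj_one_left.1 (e ▸ hc))
    have hu2 : u * u = 1 := by
      obtain ⟨k, rfl⟩ := isConj_iff.1 hc
      rw [show k * t * k⁻¹ * (k * t * k⁻¹) = k * (t * t) * k⁻¹ by group, C.frame.tt]; group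
    obtain ⟨i, hi, -, k, hk, rfl⟩ := exists_rep K ⟨hu, hu2, hu1, hut⟩
    have hc' : IsConj t (cEl t a b x y r (reps0T.getD i (0, 0, 0)).1) :=
      hc.trans (isConj_iff.2 ⟨k, rfl⟩ : IsConj _ _).symm
    interval_cases i
    · have h1 : cEl t a b x y r 1 ∈ W := (hmem _).2 ⟨1, by decide, rfl⟩
      exact (Subgroup.mem_normalizer_iff.1 (hC (Subgroup.mem_centralizer_singleton_iff.2 hk)) _).1 h1
    · exact absurd hc' hb
    · exact absurd hc' (not_fused_42 C)
    · exact absurd hc' (not_fused_centre C hb h392)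
    · exact absurd hc' h392
    · exact absurd (h393 hc') hb
    · exact absurd hc' (not_fused_last C)

/-- The type on both groups contradicts the order. -/
theorem both_false (C : Coords t Q [65, 4, 2, 72, 120, 96] true x y r a b) (hG : Nat.card G = 4030387200)
    {s s' : G} (hst : s * t * s⁻¹ = cEl t a b x y r 1) (hs : Imgs (cEl t a b x y r) s [256, 14609, 19527])
    (hst' : s' * t * s'⁻¹ = cEl t (swA t a b) (swB t a b) x⁻¹ y (t * r) 1)
    (hs' : Imgs (cEl t (swA t a b) (swB t a b) x⁻¹ y (t * r)) s' [256, 14609, 19527]) : False := by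
  have K := code0 C
  have C' := C.swap_exact.1
  have K' := code0 C'
  have him : ∀ k < 3, ([256, 14609, 19527] : List ℕ).getD k 0 < 21504 := by
    intro k hk; interval_cases k <;> simp
  have T := table K tree_m1 him hs
  have T' := table K' tree_m1 him hs'
  obtain ⟨W1, hm1, hc1, ht1, hcm1, -, hC1⟩ := exists_sub C w1_ok.1 w1_ok.2
  obtain ⟨W2, hm2, hc2, ht2, hcm2, -, hC2⟩ := exists_sub C w2_ok.1 w2_ok.2
  obtain ⟨hsN, htr⟩ := first_group C hst T m1_w hm1 hC1
  obtain ⟨-, -, hpi1, -, hsw1, hsw2⟩ := sw_ok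
  simp only [List.all_eq_true, Bool.and_eq_true, List.contains_iff_mem, List.any_eq_true, beq_iff_eq] at hsw1 hsw2
  have w1lt : ∀ c ∈ w1L, c < 21504 := by decide
  have w2lt : ∀ c ∈ w2L, c < 21504 := by decide
  have hb : s' * t * s'⁻¹ = cEl t a b x y r 8 := by rw [hst', (el_pi C (by norm_num)).2, hpi1]
  have hm0 : s' ∈ Subgroup.normalizer (W2 : Set G) := by
    refine Subgroup.mem_normalizer_fintype fun u hu => ?_
    obtain ⟨c, hc, rfl⟩ := (hm2 u).1 hu
    obtain ⟨-, d, hd, rfl⟩ := hsw2 c hc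
    have h := List.all_eq_true.1 m1_w d hd
    simp only [List.any_eq_true, List.mem_range, Bool.and_eq_true, beq_iff_eq, List.contains_iff_mem] at h
    obtain ⟨i, hi, rfl, hi'⟩ := h
    refine (hm2 _).2 ⟨piC (bg psiM1 i), (hsw1 _ hi').1, eq_mul_inv_iff_mul_eq.2 ?_⟩
    rw [← (el_pi C (w1lt _ hi')).2, ← (el_pi C (w1lt _ hd)).2]
    exact (T' i hi).2.2.symm
  have hne : ∀ {c d}, c < 21504 → d < 21504 → c ≠ d → cEl t a b x y r c ≠ cEl t a b x y r d :=
    fun hc hd h e => h (K.inj _ hc _ hd e)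
  have h := Geom.dvd_card (t := t) (W1 := W1) (W2 := W2) (b := cEl t a b x y r 8) (m0 := s')
    C.frame.t_ne ht1 ht2 (by rw [hc1]; rfl) (by rw [hc2]; rfl) hcm1 hcm2 ?_ hC1 hC2 htr hm0 hb ?_ ?_ ?_ ?_
  · rw [hG] at h; norm_num at h
  · intro u hu hu'
    obtain ⟨c, hc, rfl⟩ := (hm1 u).1 hu
    obtain ⟨d, hd, e⟩ := (hm2 _).1 hu'
    obtain rfl : d = c := K.inj d (w2lt d hd) c (w1lt c hc) e
    have := List.all_eq_true.1 w_int d hc
    simp only [List.contains_iff_mem.2 hd, Bool.not_true, Bool.false_or, Bool.or_eq_true, beq_iff_eq] at this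
    rcases this with rfl | rfl
    exacts [.inl K.el_zero, .inr K.el_top]
  · exact fun e => hne (by norm_num) (by norm_num) (by norm_num) (e.trans K.el_top.symm)
  · intro u hu hu1 hut
    obtain ⟨c, hc, rfl⟩ := (hm2 u).1 hu
    have h := List.all_eq_true.1 trB_ok c hc
    simp only [Bool.or_eq_true, beq_iff_eq, List.any_eq_true, Bool.and_eq_true, decide_eq_true_eq] at h
    obtain ⟨p, -, ⟨rfl, hd⟩, e⟩ := h.resolve_left fun e =>
      e.elim (fun e => hu1 (e ▸ K.el_zero)) fun e => hut (e ▸ K.el_top)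
    refine ⟨_, K.mem _ hd, ?_⟩
    rw [K.mul _ hd _ (by norm_num), e, ← K.mul _ (w2lt _ hc) _ hd, mul_inv_cancel_right]
  · classical
    have e : ((W1 ⊓ Subgroup.centralizer ({cEl t a b x y r 8} : Set G) : Subgroup G) : Set G)
        = cEl t a b x y r '' ↑(w1L.filter fun c => mm c 8 == mm 8 c).toFinset := by
      ext g
      simp only [SetLike.mem_coe, Subgroup.mem_inf, hm1, Subgroup.mem_centralizer_singleton_iff, Set.mem_image,
        List.coe_toFinset, Set.mem_ofPred_eq, List.mem_filter, beq_iff_eq]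
      constructor
      · rintro ⟨⟨c, hc, rfl⟩, h⟩
        exact ⟨c, ⟨hc, (K.comm_iff (w1lt c hc) (by norm_num)).1 h⟩, rfl⟩
      · rintro ⟨c, ⟨hc, h⟩, rfl⟩
        exact ⟨⟨c, hc, rfl⟩, (K.comm_iff (w1lt c hc) (by norm_num)).2 h⟩
    have hlt : ∀ c ∈ (w1L.filter fun c => mm c 8 == mm 8 c).toFinset, c < 21504 := fun c hc =>
      w1lt c (List.mem_filter.1 (List.mem_toFinset.1 hc)).1
    rw [← SetLike.coe_sort_coe, Nat.card_coe_set_eq, e, Set.InjOn.ncard_image fun p hp q hq e =>
      K.inj p (hlt p hp) q (hlt q hq) e, Set.ncard_coe_finset,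
      List.toFinset_card_of_nodup (w1_ok.2.filter _), x_card]
  · intro u hu hub hu1 hut
    obtain ⟨c, hc, rfl⟩ := (hm1 u).1 hu
    have h := List.all_eq_true.1 inc_ok c hc
    simp only [Bool.or_eq_true, Bool.not_eq_true', beq_eq_false_iff_ne, beq_iff_eq, List.any_eq_true,
      Bool.and_eq_true, decide_eq_true_eq, List.mem_range, List.contains_iff_mem] at h
    obtain ⟨q, -, ⟨⟨⟨⟨⟨⟨rfl, hd⟩, he1⟩, hv⟩, hv0⟩, hv64⟩, hw⟩, i, hi, hvi, j, hj, hwj, he⟩ :=
      h.resolve_left fun e => e.elim (fun e => e.elim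
        (fun e => e ((K.comm_iff (w1lt _ hc) (by norm_num)).1 hub))
        (fun e => hu1 (e ▸ K.el_zero))) fun e => hut (e ▸ K.el_top)
    obtain ⟨-, hbi, hTi⟩ := T i hi
    rw [hvi] at hTi
    obtain ⟨-, hbj, hTj⟩ := T' j hj
    rw [hwj] at hTj
    refine ⟨cEl t a b x y r q.2.1 * s, mul_mem (hC1 (Subgroup.mem_centralizer_singleton_iff.2 (K.mem _ hd))) hsN,
      cEl t a b x y r q.2.2.1, (hm2 _).2 ⟨_, hv, rfl⟩, ?_, ?_, ?_, ?_⟩
    · exact fun e => hne (w2lt _ hv) (by norm_num) hv0 (e.trans K.el_zero.symm)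
    · exact fun e => hne (w2lt _ hv) (by norm_num) hv64 (e.trans K.el_top.symm)
    · calc cEl t a b x y r q.2.1 * s * t * (cEl t a b x y r q.2.1 * s)⁻¹
          = cEl t a b x y r q.2.1 * (s * t * s⁻¹) * (cEl t a b x y r q.2.1)⁻¹ := by group
        _ = _ := by rw [hst, K.mul _ hd _ (by norm_num), he1, ← K.mul _ (w1lt _ hc) _ hd, mul_inv_cancel_right]
    · have e2 : cEl t a b x y r q.2.1 * s * cEl t a b x y r q.2.2.1 * (cEl t a b x y r q.2.1 * s)⁻¹
          = cEl t a b x y r (piC (bg psiM1 j)) := by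
        rw [mul_inv_eq_iff_eq_mul, mul_assoc, hTi, ← mul_assoc, K.mul _ hd _ hbi, he,
          ← K.mul _ (el_pi C hbj).1 _ hd, mul_assoc]
      rw [e2, ← (el_pi C hbj).2, mul_assoc, ← hTj, inv_mul_cancel_left, (el_pi C (w2lt _ hw)).2]
      exact (hm1 _).2 ⟨_, (hsw2 _ hw).1, rfl⟩

/-- The Held type, in the given or the exchanged coordinates. -/
theorem exists_aut_of_side (C : Coords t Q [65, 4, 2, 72, 120, 96] true x y r a b) (hG : Nat.card G = 4030387200)
    (hf : IsConj t (a 0))
    (side : ∀ {x y r : G} {a b : ℕ → G}, Coords t Q [65, 4, 2, 72, 120, 96] true x y r a b →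
      IsConj t (a 0) → Side t (cEl t a b x y r)) :
    ∃ (x' y' r' : G) (a' b' : ℕ → G), Coords t Q [65, 4, 2, 72, 120, 96] true x' y' r' a' b' ∧
      IsConj t (a' 0) ∧ IsConj t (b' 0) ∧ ∃ s : G, s ^ 3 = 1 ∧ s * t * s⁻¹ = cEl t a' b' x' y' r' 1 ∧
        ∀ i < 1536, code i < 21504 ∧ bg psiHe i < 21504 ∧
          s * cEl t a' b' x' y' r' (code i) = cEl t a' b' x' y' r' (bg psiHe i) * s := by
  obtain ⟨s, hst, hs3, h⟩ := side C hf
  have h2 := m_edges
  simp only [Bool.and_eq_true] at h2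
  obtain ⟨⟨⟨⟨⟨⟨⟨e1, e2⟩, e3⟩, e4⟩, -⟩, -⟩, -⟩, -⟩ := h2
  rcases h with ⟨hi, hb⟩ | hi | ⟨hi, hb⟩
  · obtain ⟨u, hu, hut, T⟩ := he_normal C hst hs3 hi
    exact ⟨x, y, r, a, b, C, hf, el_eight C ▸ hb, u, hu, hut, T⟩
  · have T := table (code0 C) tree_m1 (fun k hk => by interval_cases k <;> simp) hi
    have hb := fused_second C hG hst T m1_w ⟨e1, e2⟩
    have C' := C.swap_exact.1
    have hf' : IsConj t (swA t a b 0) := by
      rw [show swA t a b 0 = b 0 from C.frame.el_b (i := 0) (by norm_num)]; exact hb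
    obtain ⟨s', hst', hs3', h'⟩ := side C' hf'
    rcases h' with ⟨hi', hb'⟩ | hi' | ⟨-, hb'⟩
    · obtain ⟨u, hu, hut, T'⟩ := he_normal C' hst' hs3' hi'
      exact ⟨_, _, _, _, _, C', hf', el_eight C' ▸ hb', u, hu, hut, T'⟩
    · exact (both_false C hG hst hi hst' hi').elim
    · refine absurd ?_ hb'
      rw [el_eight C', show swB t a b 0 = a 0 from C.frame.el_a (i := 0) (by norm_num)]
      exact hf
  · have T := table (code0 C) tree_m2 (fun k hk => by interval_cases k <;> simp) hi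
    exact absurd (fused_second C hG hst T m2_w ⟨e3, e4⟩) (el_eight C ▸ hb)

end CfsgLib.HeType.Cert.Aut
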