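import Cfsg.Agent.Lib.HeType.Cert.AutLocal
import Cfsg.Agent.Lib.HeType.Fusion.Coords

/-!
# The automorphisms on the codes: tables, elementary groups, the exchange, classes
-/

set_option autoImplicit false
set_option linter.unusedSectionVars false
set_option maxRecDepth 20000

namespace CfsgLib.HeType.Cert.Aut

open Local

variable {G : Type*} [Group G] [Finite G] {t : G}

section Code

variable {el : ℕ → G} (K : IsCode t el mm)
include K

/-- The images of the three generators determine those of the whole group. -/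
theorem table {s : G} {im : List ℕ} {psi : List (List ℕ)} (hok : treeOk psi im = true)
    (him : ∀ k < 3, im.getD k 0 < 21504) (hs : ∀ k < 3, s * el (gens.getD k 0) = el (im.getD k 0) * s) :
    ∀ i < 1536, code i < 21504 ∧ bg psi i < 21504 ∧ s * el (code i) = el (bg psi i) * s := by
  intro i
  induction i using Nat.strong_induction_on with
  | _ i ih =>
    intro hi
    have h := List.all_eq_true.1 hok i (List.mem_range.2 hi)
    rw [treeRow] at h
    by_cases h0 : i = 0
    · subst h0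
      simp only [beq_self_eq_true, if_true, Bool.and_eq_true, beq_iff_eq] at h
      rw [h.1, h.2]
      exact ⟨by norm_num, by norm_num, by rw [K.el_zero, mul_one, one_mul]⟩
    · rw [if_neg (by simpa using h0)] at h
      simp only [Bool.and_eq_true, decide_eq_true_eq, beq_iff_eq] at h
      obtain ⟨⟨⟨hp, hg⟩, hc⟩, hb⟩ := h
      obtain ⟨h1, h2, h3⟩ := ih (par i) hp (hp.trans hi)
      have hgl : gens.getD (gn i) 0 < 21504 := by
        interval_cases (gn i) <;> simp [gens]
      refine ⟨hc ▸ K.lt _ h1 _ hgl, hb ▸ K.lt _ h2 _ (him _ hg), ?_⟩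
      rw [hc, hb, ← K.mul _ h1 _ hgl, ← K.mul _ h2 _ (him _ hg), ← mul_assoc, h3, mul_assoc, hs _ hg, mul_assoc]

theorem mem_cls {c i : ℕ} (h : inCls c i = true) : c < 21504 ∧ IsConj (el (reps0T.getD i (0, 0, 0)).1) (el c) := by
  simp only [inCls, List.any_eq_true, Bool.and_eq_true, beq_iff_eq] at h
  obtain ⟨w, hw, e1, e2⟩ := h
  obtain ⟨h1, -, h3⟩ := entry0 K hw
  rw [e2, e1] at h3
  exact ⟨e1 ▸ h1, h3⟩

/-- Every involution is a conjugate of a representative inside the centraliser. -/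
theorem exists_rep {g : G} (hg : Inv' t g) : ∃ i < 7, Val t g (reps0T.getD i (0, 0, 0)).2 ∧
    ∃ k, k * t = t * k ∧ g = k * el (reps0T.getD i (0, 0, 0)).1 * k⁻¹ := by
  obtain ⟨w, hw, rfl⟩ := K.classify complete0T hg
  obtain ⟨hv, -⟩ := K.entry_val conj0T count0T hw
  obtain ⟨-, hi, hk, hmem, he⟩ := K.entry conj0T hw
  exact ⟨w.2.1, by simpa [reps0T] using hi, hv, _, K.mem _ hk, he (K.rep_lt count0T hmem).1⟩

theorem inv_code {c : ℕ} (hc : c < 21504) (h : mm c c = 0) (h0 : c ≠ 0) (h64 : c ≠ 64) : Inv' t (el c) :=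
  ⟨K.mem c hc, by rw [K.mul c hc c hc, h, K.el_zero],
    fun e => h0 (K.inj c hc 0 (by norm_num) (e.trans K.el_zero.symm)),
    fun e => h64 (K.inj c hc 64 (by norm_num) (e.trans K.el_top.symm))⟩

end Code

/-- The codes commuting with the first generator are those of the tree. -/
theorem exists_place {c : ℕ} (hc : c < 21504) (h : mm c 1 = mm 1 c) : ∃ i < 1536, code i = c := by
  have : c ∈ (List.range 21504).filter fun c => mm c 1 == mm 1 c :=
    List.mem_filter.2 ⟨List.mem_range.2 hc, by simpa using h⟩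
  rw [codes_d, flat_d, List.mem_map] at this
  obtain ⟨j, hj, rfl⟩ := this
  have := List.all_eq_true.1 places j hj
  simp only [Bool.and_eq_true, decide_eq_true_eq, beq_iff_eq] at this
  exact ⟨_, this.1, this.2⟩

theorem of_sends {psi : List (List ℕ)} {c d : ℕ} (h : sends psi c d = true) :
    ∃ i < 1536, code i = c ∧ bg psi i = d := by
  simp only [sends, List.any_eq_true, List.mem_range, Bool.and_eq_true, beq_iff_eq] at h
  exact h

variable {Q : Subgroup G} {x y r : G} {a b : ℕ → G}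

theorem code0 (C : Coords t Q [65, 4, 2, 72, 120, 96] true x y r a b) : IsCode t (cEl t a b x y r) mm :=
  C.isCode act0_ok lmT_ok

theorem el_one (C : Coords t Q [65, 4, 2, 72, 120, 96] true x y r a b) : cEl t a b x y r 1 = a 0 := by
  rw [C.cEl_low (by norm_num)]; exact C.frame.el_a (i := 0) (by norm_num)

theorem el_eight (C : Coords t Q [65, 4, 2, 72, 120, 96] true x y r a b) : cEl t a b x y r 8 = b 0 := by
  rw [C.cEl_low (by norm_num)]; exact C.frame.el_b (i := 0) (by norm_num)

theorem el_gen (C : Coords t Q [65, 4, 2, 72, 120, 96] true x y r a b) :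
    cEl t a b x y r 128 = x ∧ cEl t a b x y r 256 = y ∧ cEl t a b x y r 384 = r := by
  obtain ⟨-, h1, h2, h3⟩ := lPaths_gen
  refine ⟨?_, ?_, ?_⟩ <;>
    simp only [cEl, Nat.reduceMod, Nat.reduceDiv, C.frame.el_zero, h1, h2, h3] <;> simp [lWord, gL]

/-- The group of the codes of a list. -/
theorem exists_sub (C : Coords t Q [65, 4, 2, 72, 120, 96] true x y r a b) {L : List ℕ} (h : wOk L = true)
    (hnd : L.Nodup) : ∃ W : Subgroup G, (∀ g, g ∈ W ↔ ∃ c ∈ L, cEl t a b x y r c = g) ∧
      Nat.card ↥W = L.length ∧ t ∈ W ∧ (∀ u ∈ W, u * t = t * u) ∧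
      (∀ u ∈ W, ∀ v ∈ W, u * v = v * u) ∧
      Subgroup.centralizer ({t} : Set G) ≤ Subgroup.normalizer (W : Set G) := by
  classical
  have K := code0 C
  simp only [wOk, Bool.and_eq_true, List.all_eq_true, decide_eq_true_eq, beq_iff_eq, List.contains_iff_mem,
    List.any_eq_true, List.mem_append, List.mem_range] at h
  obtain ⟨⟨⟨hL, h0⟩, h64⟩, hN⟩ := h
  have inv : ∀ c ∈ L, cEl t a b x y r c * cEl t a b x y r c = 1 := fun c hc => by
    obtain ⟨⟨⟨h1, h2⟩, -⟩, -⟩ := hL c hc
    rw [K.mul c h1 c h1, h2, K.el_zero]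
  let W : Subgroup G :=
    { carrier := {g | ∃ c ∈ L, cEl t a b x y r c = g}
      one_mem' := ⟨0, h0, K.el_zero⟩
      mul_mem' := by
        rintro _ _ ⟨c, hc, rfl⟩ ⟨d, hd, rfl⟩
        exact ⟨mm c d, (hL c hc).2 d hd, (K.mul c (hL c hc).1.1.1 d (hL d hd).1.1.1).symm⟩
      inv_mem' := by
        rintro _ ⟨c, hc, rfl⟩
        exact ⟨c, hc, (inv_eq_of_mul_eq_one_right (inv c hc)).symm⟩ }
  have hcard : Nat.card ↥W = L.length := by
    have e : (W : Set G) = cEl t a b x y r '' ↑L.toFinset := by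
      ext g
      simp [W]
    rw [← SetLike.coe_sort_coe, Nat.card_coe_set_eq, e, Set.InjOn.ncard_image fun p hp q hq e =>
      K.inj p (hL p (List.mem_toFinset.1 hp)).1.1.1 q (hL q (List.mem_toFinset.1 hq)).1.1.1 e,
      Set.ncard_coe_finset, List.toFinset_card_of_nodup hnd]
  refine ⟨W, fun g => Iff.rfl, hcard, ⟨64, h64, K.el_top⟩, ?_, ?_, ?_⟩
  · rintro _ ⟨c, hc, rfl⟩
    exact K.mem c (hL c hc).1.1.1
  · intro u hu v hv
    obtain ⟨w, hw, ew⟩ := W.mul_mem hu hv
    have h := inv w hw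
    rw [ew] at h
    obtain ⟨c, hc, rfl⟩ := hu
    obtain ⟨d, hd, rfl⟩ := hv
    calc cEl t a b x y r c * cEl t a b x y r d
        = (cEl t a b x y r c * cEl t a b x y r d)⁻¹ := (inv_eq_of_mul_eq_one_right h).symm
      _ = _ := by rw [mul_inv_rev, inv_eq_of_mul_eq_one_right (inv c hc), inv_eq_of_mul_eq_one_right (inv d hd)]
  · have hg : ∀ g, (g < 128 ∨ g = 128 ∨ g = 256 ∨ g = 384) →
        cEl t a b x y r g ∈ Subgroup.normalizer (W : Set G) := by
      intro g hg
      have hgl : g < 21504 := by omega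
      refine Subgroup.mem_normalizer_fintype ?_
      rintro _ ⟨w, hw, rfl⟩
      obtain ⟨w', hw', e⟩ := hN g (by
        rcases hg with h | h | h | h
        · exact .inl h
        all_goals exact .inr (by simp [h])) w hw
      refine ⟨w', hw', ?_⟩
      rw [eq_mul_inv_iff_mul_eq, K.mul _ (hL w' hw').1.1.1 _ hgl, K.mul _ hgl _ (hL w hw).1.1.1, e]
    obtain ⟨ex, ey, er⟩ := el_gen C
    rw [← C.gen, sup_le_iff, Subgroup.closure_le]
    refine ⟨fun q hq => ?_, ?_⟩
    · obtain ⟨v, hv, rfl⟩ := (C.hQ q).1 hq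
      rw [← C.cEl_low hv]
      exact hg v (.inl hv)
    · intro q hq
      simp only [Set.mem_insert_iff, Set.mem_singleton_iff] at hq
      rcases hq with rfl | rfl | rfl
      · rw [← ex]; exact hg 128 (by simp)
      · rw [← ey]; exact hg 256 (by simp)
      · rw [← er]; exact hg 384 (by simp)

/-- The exchanged coordinates on codes. -/
theorem el_pi (C : Coords t Q [65, 4, 2, 72, 120, 96] true x y r a b) {c : ℕ} (hc : c < 21504) :
    piC c < 21504 ∧ cEl t (swA t a b) (swB t a b) x⁻¹ y (t * r) c = cEl t a b x y r (piC c) := by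
  have K := code0 C
  obtain ⟨ex, ey, er⟩ := el_gen C
  obtain ⟨hxi, htr, -⟩ := sw_ok
  have hsw : ∀ k < 3, swL.getD k 0 < 21504 ∧ cEl t a b x y r (swL.getD k 0) = gL x⁻¹ y (t * r) k := by
    intro k hk
    interval_cases k <;> simp only [swL, gL, List.getD_cons_zero, List.getD_cons_succ] <;>
      refine ⟨by norm_num, ?_⟩ <;> norm_num
    · refine (inv_eq_of_mul_eq_one_right ?_).symm
      conv_lhs => arg 1; rw [← ex]
      rw [K.mul _ (by norm_num) _ (by norm_num), hxi, K.el_zero]
    · exact ey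
    · rw [← htr, ← K.mul _ (by norm_num) _ (by norm_num), er, K.el_top]
  have hfold : ∀ w : List ℕ, (∀ k ∈ w, k < 3) → ∀ r0 < 21504,
      w.foldl (fun r k => mm r (swL.getD k 0)) r0 < 21504 ∧
      cEl t a b x y r r0 * lWord x⁻¹ y (t * r) w
        = cEl t a b x y r (w.foldl (fun r k => mm r (swL.getD k 0)) r0) := by
    intro w
    induction w with
    | nil => exact fun _ r0 h => ⟨h, by simp [lWord]⟩
    | cons k w ih =>
      intro hw r0 h0
      obtain ⟨hk, ek⟩ := hsw k (hw k (List.mem_cons_self ..))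
      obtain ⟨h1, h2⟩ := ih (fun j hj => hw j (List.mem_cons_of_mem _ hj)) _ (K.lt r0 h0 _ hk)
      refine ⟨h1, ?_⟩
      rw [List.foldl_cons, ← h2, ← K.mul r0 h0 _ hk, ek]
      simp [lWord, mul_assoc]
  have hw : ∀ k ∈ lPaths.getD (c / 128) [], k < 3 := by
    intro k hk
    rcases Nat.lt_or_ge (c / 128) lPaths.length with h | h
    · rw [List.getD_eq_getElem _ _ h] at hk
      exact of_decide_eq_true (List.all_eq_true.1 (List.all_eq_true.1 paths_ok _ (List.getElem_mem h)) k hk)
    · rw [List.getD_eq_default _ _ h] at hk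
      simp at hk
  obtain ⟨h1, h2⟩ := hfold _ hw 0 (by norm_num)
  rw [K.el_zero, one_mul] at h2
  have hv : c % 128 < 128 := Nat.mod_lt _ (by norm_num)
  have hq := List.all_eq_true.1 qmul_lt_check _ (List.mem_range.2 hv)
  simp only [Bool.and_eq_true, decide_eq_true_eq] at hq
  have hq' : qAut swapP (c % 128) < 21504 := hq.1.trans (by norm_num)
  refine ⟨K.lt _ hq' _ h1, ?_⟩
  show qEl t (swA t a b) (swB t a b) (c % 128) * lWord x⁻¹ y (t * r) _ = _
  rw [C.swap_exact.2 _ hv, h2, ← C.cEl_low hq.1, K.mul _ hq' _ h1]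
  rfl

end CfsgLib.HeType.Cert.Aut
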