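import Cfsg.Agent.Lib.HeType.Cert.Fast
import Mathlib.GroupTheory.GroupAction.Basic
import Mathlib.Tactic.Group
import Mathlib.Tactic

/-!
# Checking logged deductions about cosets of the coded group

A fact `(v, c, g, m, u, e)` says that the point `v` times the code `c` times `s ^ g` is the code `m` times the point
`u` times the code `e`. The checks follow relation words by earlier facts; each intermediate code is evaluated
before it is passed on.
-/

set_option autoImplicit false

namespace CfsgLib.HeType.Cert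

/-- An entry of a list in blocks of 64. -/
def bGet {α : Type} (L : List (List α)) (i : ℕ) (z : α) : α := (L.getD (i / 64) []).getD (i % 64) z

/-- A field of a packed fact. -/
def fld (F j : ℕ) : ℕ := (F >>> (16 * j)) % 65536

/-- A field of a packed table entry or move. -/
def fld' (F j : ℕ) : ℕ := (F >>> (15 * j)) % 32768

/-- Pass the value of a natural number to the continuation. -/
def frN (n : ℕ) (k : ℕ → Bool) : Bool :=
  match n with
  | 0 => k 0
  | m + 1 => k (m + 1)

theorem frN_eq (n : ℕ) (k : ℕ → Bool) : frN n k = k n := by cases n <;> rfl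

/-- Multiply the code by the leading code letters of a word. -/
def eat : List ℕ → ℕ → (List ℕ → ℕ → Bool) → Bool
  | [], c, k => k [] c
  | a :: w, c, k => if a < 21504 then frN (fMul c a) fun c' => eat w c' k else k (a :: w) c

/-- Orient a fact as the move says and pass its fields, the code test of the inverse included. -/
def orient (F rev x : ℕ) (k : ℕ → ℕ → ℕ → ℕ → ℕ → ℕ → Bool) : Bool :=
  if rev = 0 then k (fld F 0) (fld F 1) (fld F 2) (fld F 3) (fld F 4) (fld F 5)
  else Nat.blt x 21504 && fMul (fld F 3) x == 0 && k (fld F 4) (fld F 5) ((3 - fld F 2) % 3) x (fld F 0) (fld F 1)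

/-- One move from the state `(m, v, c)` with the word that remains. -/
def move (facts : List (List ℕ)) (i : ℕ) (dTab : List (List ℕ)) (mv : ℕ) (w : List ℕ) (m v c : ℕ)
    (k : List ℕ → ℕ → ℕ → ℕ → Bool) : Bool :=
  frN (fld' mv 0) fun d => frN (fld' mv 1) fun x => frN (mv / 2 ^ 30 % 2) fun rev => frN (mv / 2 ^ 31) fun j =>
    if j = 0 then
      v == 0 && Nat.blt d 21504 && Nat.blt x 21504 && fMul d x == c && frN (fMul m d) fun m' => k w m' 0 x
    else
      Nat.ble j i && frN (bGet facts (j - 1) 0) fun F => orient F rev x fun fv fc fg fm fu fe =>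
        Nat.blt fc 21504 && Nat.blt fm 21504 && Nat.blt fe 21504 && fv == v &&
        if fg = 0 then
          Nat.blt d 21504 && fMul fc d == c && frN (fMul m fm) fun m' => frN (fMul fe d) fun c' => k w m' fu c'
        else
          match w with
          | [] => false
          | a :: w' =>
            Nat.blt fg 3 && a == 21504 + fg && frN (bGet dTab d 0) fun D => fMul fc (fld' D 0) == c &&
              frN (fMul m fm) fun m' => frN (fMul fe (if fg = 1 then fld' D 1 else fld' D 2)) fun c' => k w' m' fu c'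

/-- Follow a word by moves. -/
def run (facts : List (List ℕ)) (i : ℕ) (dTab : List (List ℕ)) :
    List ℕ → List ℕ → ℕ → ℕ → ℕ → (ℕ → ℕ → ℕ → Bool) → Bool
  | [], w, m, v, c, k => eat w c fun w' c' => w'.isEmpty && k m v c'
  | mv :: ms, w, m, v, c, k => eat w c fun w' c' =>
      move facts i dTab mv w' m v c' fun w'' m' v' c'' => run facts i dTab ms w'' m' v' c'' k

/-- The second word is the inverse of the first, letter by letter from the end. -/
def invP : List ℕ → List ℕ → Bool
  | [], [] => true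
  | a :: A, b :: B =>
    (if a < 21504 then Nat.blt b 21504 && fMul a b == 0
      else Nat.blt 21504 a && Nat.blt a 21507 && Nat.blt 21504 b && Nat.blt b 21507 && a + b == 43011) && invP A B
  | _, _ => false

/-- A relation with its inverse. -/
def invOk (r : List ℕ × List ℕ) : Bool := invP r.1.reverse r.2

/-- The step justifies the fact of its index. -/
def stepOk (pts facts : List (List ℕ)) (steps : List (List (List ℕ))) (dTab : List (List ℕ))
    (rels : List (List ℕ × List ℕ)) (i : ℕ) : Bool :=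
  frN (bGet facts i 0) fun F =>
    match bGet steps i [] with
    | [] => Nat.blt (fld F 0) (fld F 4) && fld F 3 == 0 && fld F 5 == 0 && Nat.blt (fld F 1) 21504 &&
        bGet pts (fld F 4 - 1) 0 == fld F 0 + 2 ^ 16 * (fld F 1 + 2 ^ 16 * fld F 2)
    | hd :: moves =>
      frN (fld hd 0) fun v => frN (fld hd 1) fun c => frN (fld hd 2) fun r => frN (fld hd 3) fun pos =>
      frN (hd >>> 64) fun nf =>
        Nat.blt c 21504 && Nat.blt (fld F 1) 21504 && Nat.blt (fld F 3) 21504 && Nat.blt (fld F 5) 21504 &&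
        invOk (rels.getD r ([], [])) &&
        (fld F 2 == 0 || (rels.getD r ([], [])).1.getD pos 0 == 21504 + fld F 2) &&
        run facts i dTab (moves.take nf) ((rels.getD r ([], [])).1.take pos) 0 v c fun m1 v1 c1 =>
          v1 == fld F 0 && c1 == fld F 1 &&
          run facts i dTab (moves.drop nf)
              ((rels.getD r ([], [])).2.take
                ((rels.getD r ([], [])).1.length - pos - (if fld F 2 = 0 then 0 else 1))) 0 v c fun m2 v2 c2 =>
            v2 == fld F 4 && c2 == fld F 5 && fMul m1 (fld F 3) == m2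

/-- The steps of a range. -/
def stepsOk (pts facts : List (List ℕ)) (steps : List (List (List ℕ))) (dTab : List (List ℕ))
    (rels : List (List ℕ × List ℕ)) (lo len : ℕ) : Bool :=
  (List.range' lo len).all (stepOk pts facts steps dTab rels)

/-- A word is followed back to the base point with the value `k`. -/
def traceOk (facts : List (List ℕ)) (n : ℕ) (dTab : List (List ℕ)) (moves w : List ℕ) (k : ℕ) : Bool :=
  run facts n dTab moves w 0 0 0 fun m v c => v == 0 && fMul m c == k

variable {G : Type*} [Group G]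

/-- The value of a letter. -/
def evL (el : ℕ → G) (s : G) (a : ℕ) : G := if a < 21504 then el a else s ^ (a - 21504)

/-- The value of a word. -/
def evW (el : ℕ → G) (s : G) (w : List ℕ) : G := (w.map (evL el s)).prod

/-- The points, given by parent, code and power of `s`. -/
def pEl (el : ℕ → G) (s : G) (pts : List (List ℕ)) : ℕ → G
  | 0 => 1
  | n + 1 => (if fld (bGet pts n 0) 0 ≤ n then pEl el s pts (fld (bGet pts n 0) 0) else 1) *
      el (fld (bGet pts n 0) 1) * s ^ fld (bGet pts n 0) 2
  termination_by n => n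
  decreasing_by omega

/-- The content of a fact. -/
def Valid (el : ℕ → G) (s : G) (pts : List (List ℕ)) (F : ℕ) : Prop :=
  pEl el s pts (fld F 0) * el (fld F 1) * s ^ fld F 2 = el (fld F 3) * pEl el s pts (fld F 4) * el (fld F 5)

/-- The rules used by the checks. -/
structure Sys (el : ℕ → G) (s : G) (dTab : List (List ℕ)) (rels : List (List ℕ × List ℕ)) : Prop where
  one : el 0 = 1
  mul : ∀ c d, c < 21504 → d < 21504 → fMul c d < 21504 ∧ el c * el d = el (fMul c d)
  cube : s ^ 3 = 1
  tab : ∀ B ∈ dTab, ∀ e ∈ B, (fld' e 0 < 21504 ∧ fld' e 1 < 21504 ∧ fld' e 2 < 21504) ∧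
    el (fld' e 0) * s = s * el (fld' e 1) ∧ el (fld' e 0) * s ^ 2 = s ^ 2 * el (fld' e 2)
  rel : ∀ r ∈ rels, evW el s r.1 = 1

theorem bGet_mem {α : Type} (L : List (List α)) (i : ℕ) (z : α) :
    bGet L i z = z ∨ ∃ B ∈ L, bGet L i z ∈ B := by
  unfold bGet
  by_cases h1 : i / 64 < L.length
  · rw [List.getD_eq_getElem _ _ h1]
    by_cases h2 : i % 64 < (L[i / 64]).length
    · rw [List.getD_eq_getElem _ _ h2]
      exact .inr ⟨_, List.getElem_mem h1, List.getElem_mem h2⟩
    · exact .inl (List.getD_eq_default _ _ (by omega))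
  · rw [List.getD_eq_default (l := L) (d := []) (by omega)]
    exact .inl rfl

namespace Sys

variable {el : ℕ → G} {s : G} {dTab : List (List ℕ)} {rels : List (List ℕ × List ℕ)} (S : Sys el s dTab rels)
  (pts : List (List ℕ))

include S

theorem tab' (d : ℕ) : (fld' (bGet dTab d 0) 0 < 21504 ∧ fld' (bGet dTab d 0) 1 < 21504 ∧
      fld' (bGet dTab d 0) 2 < 21504) ∧
    el (fld' (bGet dTab d 0) 0) * s = s * el (fld' (bGet dTab d 0) 1) ∧
    el (fld' (bGet dTab d 0) 0) * s ^ 2 = s ^ 2 * el (fld' (bGet dTab d 0) 2) := by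
  rcases bGet_mem dTab d 0 with h | ⟨B, hB, h⟩
  · have e : ∀ j, fld' 0 j = 0 := fun j => by simp [fld']
    rw [h]; simp [e, S.one]
  · exact S.tab B hB _ h

theorem eat_spec : ∀ (w : List ℕ) (c : ℕ) (k : List ℕ → ℕ → Bool), eat w c k = true → c < 21504 →
    ∃ w' c', c' < 21504 ∧ k w' c' = true ∧ el c * evW el s w = el c' * evW el s w'
  | [], c, k, h, hc => ⟨[], c, hc, h, rfl⟩
  | a :: w, c, k, h, hc => by
    rw [eat] at h
    by_cases ha : a < 21504
    · rw [if_pos ha, frN_eq] at h
      obtain ⟨w', c', hc', hk, e⟩ := eat_spec w _ k h (S.mul c a hc ha).1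
      refine ⟨w', c', hc', hk, ?_⟩
      rw [← e, ← (S.mul c a hc ha).2, mul_assoc]
      congr 1
      simp [evW, evL, ha]
    · rw [if_neg ha] at h
      exact ⟨a :: w, c, hc, h, rfl⟩

theorem orient_spec {F rev x : ℕ} {k : ℕ → ℕ → ℕ → ℕ → ℕ → ℕ → Bool} (h : orient F rev x k = true)
    (hF : fld F 2 < 3 ∧ fld F 3 < 21504) (hV : Valid el s pts F) :
    ∃ fv fc fg fm fu fe, k fv fc fg fm fu fe = true ∧
      pEl el s pts fv * el fc * s ^ fg = el fm * pEl el s pts fu * el fe := by
  unfold orient at h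
  by_cases hr : rev = 0
  · rw [if_pos hr] at h
    exact ⟨_, _, _, _, _, _, h, hV⟩
  · rw [if_neg hr] at h
    simp only [Bool.and_eq_true, Nat.blt_eq, beq_iff_eq] at h
    obtain ⟨⟨hx, hm⟩, hk⟩ := h
    refine ⟨_, _, _, _, _, _, hk, ?_⟩
    have hinv : el x = (el (fld F 3))⁻¹ := by
      refine eq_inv_of_mul_eq_one_right ?_
      rw [(S.mul _ _ hF.2 hx).2, hm, S.one]
    have hs : s ^ ((3 - fld F 2) % 3) = (s ^ fld F 2)⁻¹ := by
      refine eq_inv_of_mul_eq_one_right ?_
      rw [← pow_add]
      rcases (show fld F 2 = 0 ∨ fld F 2 = 1 ∨ fld F 2 = 2 by omega) with e | e | e <;> rw [e] <;>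
        first | exact pow_zero s | exact S.cube
    rw [hinv, hs, show pEl el s pts (fld F 4) * el (fld F 5)
      = (el (fld F 3))⁻¹ * (pEl el s pts (fld F 0) * el (fld F 1) * s ^ fld F 2) by rw [hV]; group]
    group

/-- The facts below `i` are valid and in bounds. -/
def Below (el : ℕ → G) (s : G) (pts facts : List (List ℕ)) (i : ℕ) : Prop :=
  ∀ j < i, (fld (bGet facts j 0) 2 < 3 ∧ fld (bGet facts j 0) 3 < 21504) ∧ Valid el s pts (bGet facts j 0)

theorem move_spec {facts : List (List ℕ)} {i mv m v c : ℕ} {w : List ℕ} {k : List ℕ → ℕ → ℕ → ℕ → Bool}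
    (hB : Below el s pts facts i) (h : move facts i dTab mv w m v c k = true) (hm : m < 21504) (hc : c < 21504) :
    ∃ w' m' v' c', m' < 21504 ∧ c' < 21504 ∧ k w' m' v' c' = true ∧
      el m * pEl el s pts v * el c * evW el s w = el m' * pEl el s pts v' * el c' * evW el s w' := by
  simp only [move, frN_eq] at h
  split_ifs at h with hj
  · simp only [Bool.and_eq_true, Nat.blt_eq, beq_iff_eq] at h
    obtain ⟨⟨⟨⟨rfl, hd⟩, hx⟩, e⟩, hk⟩ := h
    refine ⟨w, _, 0, _, (S.mul _ _ hm hd).1, hx, hk, ?_⟩
    rw [← e, ← (S.mul _ _ hd hx).2, ← (S.mul _ _ hm hd).2, pEl]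
    group
  · simp only [Bool.and_eq_true, Nat.ble_eq] at h
    obtain ⟨hji, h⟩ := h
    obtain ⟨hF, hV⟩ := hB (mv / 2 ^ 31 - 1) (by omega)
    obtain ⟨fv, fc, fg, fm, fu, fe, h', e⟩ := S.orient_spec pts h hF hV
    clear h
    rename' h' => h
    simp only [Bool.and_eq_true, Nat.blt_eq, beq_iff_eq] at h
    obtain ⟨⟨⟨⟨hfc, hfm⟩, hfe⟩, rfl⟩, h⟩ := h
    by_cases hg : fg = 0
    · subst hg
      simp only [if_true, Bool.and_eq_true, Nat.blt_eq, beq_iff_eq] at h
      obtain ⟨⟨hd, ec⟩, hk⟩ := h
      refine ⟨w, _, fu, _, (S.mul _ _ hm hfm).1, (S.mul _ _ hfe hd).1, hk, ?_⟩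
      rw [pow_zero, mul_one] at e
      rw [← ec, ← (S.mul _ _ hfc hd).2, ← (S.mul _ _ hm hfm).2, ← (S.mul _ _ hfe hd).2]
      simp only [← mul_assoc]
      rw [mul_assoc (el m) (pEl el s pts fv) (el fc), e]
      simp only [← mul_assoc]
    · rw [if_neg hg] at h
      rcases w with _ | ⟨a, w'⟩
      · simp at h
      simp only [Bool.and_eq_true, Nat.blt_eq, beq_iff_eq] at h
      obtain ⟨⟨hg3, rfl⟩, ec, hk⟩ := h
      obtain ⟨⟨hD, hP1, hP2⟩, t1, t2⟩ := S.tab' (fld' mv 0)
      set D := bGet dTab (fld' mv 0) 0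
      have hP : (if fg = 1 then fld' D 1 else fld' D 2) < 21504 := by split_ifs <;> assumption
      have hT : el (fld' D 0) * s ^ fg = s ^ fg * el (if fg = 1 then fld' D 1 else fld' D 2) := by
        rcases (show fg = 1 ∨ fg = 2 by omega) with rfl | rfl
        · rw [pow_one, if_pos rfl, t1]
        · rw [if_neg (by omega), t2]
      refine ⟨w', _, fu, _, (S.mul _ _ hm hfm).1, (S.mul _ _ hfe hP).1, hk, ?_⟩
      rw [← ec, ← (S.mul _ _ hfc hD).2, ← (S.mul _ _ hm hfm).2, ← (S.mul _ _ hfe hP).2]
      have ea : evW el s ((21504 + fg) :: w') = s ^ fg * evW el s w' := by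
        simp [evW, evL]
      rw [ea]
      calc el m * pEl el s pts fv * (el fc * el (fld' D 0)) * (s ^ fg * evW el s w')
          = el m * pEl el s pts fv * el fc * (el (fld' D 0) * s ^ fg) * evW el s w' := by simp only [mul_assoc]
        _ = el m * (pEl el s pts fv * el fc * s ^ fg) * el (if fg = 1 then fld' D 1 else fld' D 2) * evW el s w' := by
          rw [hT]; simp only [mul_assoc]
        _ = _ := by rw [e]; simp only [mul_assoc]

theorem run_spec {facts : List (List ℕ)} {i : ℕ} (hB : Below el s pts facts i) :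
    ∀ (ms w : List ℕ) (m v c : ℕ) (k : ℕ → ℕ → ℕ → Bool), run facts i dTab ms w m v c k = true →
      m < 21504 → c < 21504 → ∃ m' v' c', m' < 21504 ∧ c' < 21504 ∧ k m' v' c' = true ∧
        el m * pEl el s pts v * el c * evW el s w = el m' * pEl el s pts v' * el c'
  | [], w, m, v, c, k, h, hm, hc => by
    rw [run] at h
    obtain ⟨w', c', hc', h, e⟩ := S.eat_spec _ _ _ h hc
    rw [Bool.and_eq_true, List.isEmpty_iff] at h
    obtain ⟨rfl, h⟩ := h
    refine ⟨m, v, c', hm, hc', h, ?_⟩
    rw [mul_assoc, e]; simp [evW]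
  | mv :: ms, w, m, v, c, k, h, hm, hc => by
    rw [run] at h
    obtain ⟨w', c', hc', h, e⟩ := S.eat_spec _ _ _ h hc
    obtain ⟨w'', m', v', c'', hm', hc'', h, e'⟩ := S.move_spec pts hB h hm hc'
    obtain ⟨m3, v3, c3, hm3, hc3, h, e3⟩ := run_spec hB ms w'' m' v' c'' k h hm' hc''
    refine ⟨m3, v3, c3, hm3, hc3, h, ?_⟩
    rw [mul_assoc, e, ← mul_assoc, e', e3]

theorem invP_spec : ∀ (A B : List ℕ) (j : ℕ), invP A B = true →
    evW el s (A.take j).reverse * evW el s (B.take j) = 1
  | A, B, 0, _ => by simp [evW]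
  | [], [], j + 1, _ => by simp [evW]
  | [], _ :: _, _ + 1, h => by simp [invP] at h
  | _ :: _, [], _ + 1, h => by simp [invP] at h
  | a :: A, b :: B, j + 1, h => by
    rw [invP, Bool.and_eq_true] at h
    have hab : evL el s a * evL el s b = 1 := by
      by_cases ha : a < 21504
      · simp only [if_pos ha, Bool.and_eq_true, Nat.blt_eq, beq_iff_eq] at h
        simp only [evL, if_pos ha, if_pos h.1.1]
        rw [(S.mul a b ha h.1.1).2, h.1.2, S.one]
      · simp only [if_neg ha, Bool.and_eq_true, Nat.blt_eq, beq_iff_eq] at h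
        obtain ⟨⟨⟨⟨⟨h1, h2⟩, h3⟩, h4⟩, h5⟩, -⟩ := h
        simp only [evL, if_neg ha, if_neg (show ¬ b < 21504 by omega)]
        rw [← pow_add, show a - 21504 + (b - 21504) = 3 by omega, S.cube]
    have ih := invP_spec A B j h.2
    simp only [evW, List.take_succ_cons, List.reverse_cons, List.map_append, List.map_cons, List.map_nil,
      List.prod_append, List.prod_cons, List.prod_nil, mul_one] at ih ⊢
    rw [mul_assoc, ← mul_assoc (evL el s a), hab, one_mul, ih]

theorem rel' (r : ℕ) : evW el s (rels.getD r ([], [])).1 = 1 := by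
  by_cases h : r < rels.length
  · rw [List.getD_eq_getElem _ _ h]; exact S.rel _ (List.getElem_mem h)
  · rw [List.getD_eq_default _ _ (by omega)]; rfl

/-- The two halves of a relation around its middle. -/
theorem split_rel {w winv : List ℕ} {pos g : ℕ} (hw : evW el s w = 1) (hinv : invP w.reverse winv = true)
    (hg : g = 0 ∨ w.getD pos 0 = 21504 + g) :
    evW el s (w.take pos) * s ^ g = evW el s (winv.take (w.length - pos - (if g = 0 then 0 else 1))) := by
  set dlt := if g = 0 then 0 else 1 with hd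
  have hW : evW el s (w.take pos) * s ^ g * evW el s (w.drop (pos + dlt)) = 1 := by
    rw [← hw]
    rcases Nat.eq_zero_or_pos g with rfl | hgp
    · simp only [hd, if_true, add_zero, pow_zero, mul_one, evW]
      rw [← List.prod_append, ← List.map_append, List.take_append_drop]
    · have hd1 : dlt = 1 := by rw [hd, if_neg (by omega)]
      have hpos : pos < w.length := by
        by_contra hh
        rw [List.getD_eq_default _ _ (by omega)] at hg
        omega
      have hl : w[pos] = 21504 + g := by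
        rw [← List.getD_eq_getElem w 0 hpos]; omega
      conv_rhs => rw [← List.take_append_drop pos w, List.drop_eq_getElem_cons hpos]
      simp [evW, hd1, hl, evL, mul_assoc]
  have h2 := S.invP_spec w.reverse winv (w.length - pos - dlt) hinv
  rw [List.take_reverse, List.reverse_reverse] at h2
  have h3 : w.drop (w.length - (w.length - pos - dlt)) = w.drop (pos + dlt) := by
    rcases Nat.lt_or_ge w.length (pos + dlt) with h | h
    · rw [List.drop_eq_nil_of_le (by omega), List.drop_eq_nil_of_le (by omega)]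
    · congr 1; omega
  rw [h3] at h2
  exact mul_right_cancel (b := (evW el s (winv.take (w.length - pos - dlt)))⁻¹) (by
    rw [mul_inv_cancel, ← eq_inv_of_mul_eq_one_left h2, hW])

theorem step_spec {facts : List (List ℕ)} {steps : List (List (List ℕ))} {i : ℕ} (hB : Below el s pts facts i)
    (h : stepOk pts facts steps dTab rels i = true) (hg : fld (bGet facts i 0) 2 < 3) :
    (fld (bGet facts i 0) 2 < 3 ∧ fld (bGet facts i 0) 3 < 21504) ∧ Valid el s pts (bGet facts i 0) := by
  simp only [stepOk, frN_eq] at h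
  set F := bGet facts i 0 with hF
  split at h
  · simp only [Bool.and_eq_true, Nat.blt_eq, beq_iff_eq] at h
    obtain ⟨⟨⟨⟨hlt, h3⟩, h5⟩, h1⟩, hp⟩ := h
    refine ⟨⟨hg, by omega⟩, ?_⟩
    have e : ∀ j < 3, fld (bGet pts (fld F 4 - 1) 0) j = fld F j := by
      intro j hj
      rw [hp]
      have b0 : fld F 0 < 65536 := Nat.mod_lt _ (by norm_num)
      have b1 : fld F 1 < 65536 := Nat.mod_lt _ (by norm_num)
      have b2 : fld F 2 < 65536 := Nat.mod_lt _ (by norm_num)
      rcases (show j = 0 ∨ j = 1 ∨ j = 2 by omega) with rfl | rfl | rfl <;>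
        (simp only [fld, Nat.shiftRight_eq_div_pow] at b0 b1 b2 ⊢; norm_num at b0 b1 b2 ⊢ <;> omega)
    have hu : fld F 4 = (fld F 4 - 1) + 1 := by omega
    simp only [Valid, h3, h5, S.one, one_mul, mul_one]
    rw [hu, pEl, e 0 (by norm_num), e 1 (by norm_num), e 2 (by norm_num), if_pos (by omega)]
  · simp only [Bool.and_eq_true, Bool.or_eq_true, Nat.blt_eq, beq_iff_eq] at h
    obtain ⟨⟨⟨⟨⟨⟨hc, h1⟩, h3⟩, h5⟩, hinv⟩, hmid⟩, h⟩ := h
    obtain ⟨m1, v1, c1, hm1, hc1, h, e1⟩ := S.run_spec pts hB _ _ _ _ _ _ h (by norm_num) hc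
    simp only [Bool.and_eq_true, beq_iff_eq] at h
    obtain ⟨⟨rfl, rfl⟩, h⟩ := h
    obtain ⟨m2, v2, c2, hm2, hc2, h, e2⟩ := S.run_spec pts hB _ _ _ _ _ _ h (by norm_num) hc
    simp only [Bool.and_eq_true, beq_iff_eq] at h
    obtain ⟨⟨rfl, rfl⟩, hm⟩ := h
    refine ⟨⟨hg, h3⟩, ?_⟩
    have hs := S.split_rel (S.rel' _) hinv hmid
    rw [← hm, ← (S.mul _ _ hm1 h3).2, ← hs, ← mul_assoc, e1] at e2
    simp only [mul_assoc] at e2
    exact mul_left_cancel (a := el m1) (by simpa only [Valid, mul_assoc] using e2)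

/-- All facts are valid. -/
theorem facts_valid {facts : List (List ℕ)} {steps : List (List (List ℕ))} {n : ℕ}
    (hg : facts.all (fun B => B.all fun F => Nat.blt (fld F 2) 3) = true)
    (h : ∀ i < n, stepOk pts facts steps dTab rels i = true) : Below el s pts facts n := by
  intro i
  induction i using Nat.strong_induction_on with
  | _ i ih =>
    intro hi
    refine S.step_spec pts (fun j hj => ih j hj (by omega)) (h i hi) ?_
    rcases bGet_mem facts i 0 with e | ⟨B, hB, e⟩
    · rw [e]; simp [fld]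
    · exact Nat.le_of_ble_eq_true (List.all_eq_true.1 (List.all_eq_true.1 hg B hB) _ e)

/-- A traced word. -/
theorem trace_eval {facts : List (List ℕ)} {n : ℕ} {moves w : List ℕ} {k : ℕ} (hB : Below el s pts facts n)
    (h : traceOk facts n dTab moves w k = true) : evW el s w = el k := by
  obtain ⟨m, v, c, hm, hc, h, e⟩ := S.run_spec pts hB _ _ _ _ _ _ h (by norm_num) (by norm_num)
  simp only [Bool.and_eq_true, beq_iff_eq] at h
  obtain ⟨rfl, rfl⟩ := h
  rw [← (S.mul _ _ hm hc).2]
  simpa [pEl, S.one] using e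

/-- A fact at the base point. -/
theorem fact_zero {F : ℕ} (hV : Valid el s pts F) (hv : fld F 0 = 0) (hu : fld F 4 = 0) (h3 : fld F 3 < 21504)
    (h5 : fld F 5 < 21504) : el (fld F 1) * s ^ fld F 2 = el (fMul (fld F 3) (fld F 5)) := by
  rw [← (S.mul _ _ h3 h5).2]
  simpa [Valid, hv, hu, pEl] using hV

end Sys

theorem stepsOk_get {pts facts : List (List ℕ)} {steps : List (List (List ℕ))} {dTab : List (List ℕ)}
    {rels : List (List ℕ × List ℕ)} {lo len : ℕ} (h : stepsOk pts facts steps dTab rels lo len = true) :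
    ∀ i, lo ≤ i → i < lo + len → stepOk pts facts steps dTab rels i = true := fun i h1 h2 =>
  List.all_eq_true.1 h i (List.mem_range'_1.2 ⟨h1, h2⟩)

end CfsgLib.HeType.Cert
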