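import Cfsg.Agent.Lib.HeType.Cert.AutSide
import Cfsg.Agent.Lib.HeType.Cert.Trace
import Cfsg.Agent.Lib.HeType.Cert.Data.Tab

/-!
The automorphism on the packed table of the certificates.
-/

set_option autoImplicit false
set_option linter.unusedSectionVars false
set_option maxRecDepth 100000
set_option Elab.async false

namespace CfsgLib.HeType.Cert.Aut

theorem psi_rows : ((List.range 1536).all fun j => Nat.blt (bg dPlace j) 1536 &&
    (code (bg dPlace j) == fld' (bg psiTab j) 0 && bg psiHe (bg dPlace j) == fld' (bg psiTab j) 2)) = true := by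
  decide +kernel

theorem psi_flat : psiTab.flatten = (List.range 1536).map (bg psiTab) := by decide +kernel

variable {G : Type*} [Group G] [Finite G] {t : G} {Q : Subgroup G} {x y r : G} {a b : ℕ → G}

/-- The packed table is conjugation by the element. -/
theorem of_tree {el : ℕ → G} {s : G}
    (T : ∀ i < 1536, code i < 21504 ∧ bg psiHe i < 21504 ∧ s * el (code i) = el (bg psiHe i) * s) :
    ∀ B ∈ psiTab, ∀ e ∈ B, s * el (fld' e 0) * s⁻¹ = el (fld' e 2) := by
  intro B hB e he
  have : e ∈ (List.range 1536).map (bg psiTab) := psi_flat ▸ List.mem_flatten.2 ⟨B, hB, he⟩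
  obtain ⟨j, hj, rfl⟩ := List.mem_map.1 this
  have h := List.all_eq_true.1 psi_rows j hj
  simp only [Bool.and_eq_true, Nat.blt_eq, beq_iff_eq] at h
  rw [← h.2.1, ← h.2.2, (T _ h.1).2.2, mul_inv_cancel_right]

/-- The element of order three, in the given or the exchanged coordinates, given the possible types. -/
theorem exists_s_of_side (C : Coords t Q [65, 4, 2, 72, 120, 96] true x y r a b) (hG : Nat.card G = 4030387200)
    (hf : IsConj t (a 0))
    (side : ∀ {x y r : G} {a b : ℕ → G}, Coords t Q [65, 4, 2, 72, 120, 96] true x y r a b →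
      IsConj t (a 0) → Side t (cEl t a b x y r)) :
    ∃ (x' y' r' : G) (a' b' : ℕ → G), Coords t Q [65, 4, 2, 72, 120, 96] true x' y' r' a' b' ∧
      IsConj t (a' 0) ∧ IsConj t (b' 0) ∧ ∃ s : G, s ^ 3 = 1 ∧ s * t * s⁻¹ = cEl t a' b' x' y' r' 1 ∧
        ∀ B ∈ psiTab, ∀ e ∈ B,
          s * cEl t a' b' x' y' r' (fld' e 0) * s⁻¹ = cEl t a' b' x' y' r' (fld' e 2) := by
  obtain ⟨x', y', r', a', b', C', ha, hb, s, h3, ht, T⟩ := exists_aut_of_side C hG hf side
  exact ⟨x', y', r', a', b', C', ha, hb, s, h3, ht, of_tree T⟩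

end CfsgLib.HeType.Cert.Aut
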