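import Cfsg.Agent.Lib.HeType.Cert.Trace
import Cfsg.Agent.Lib.HeType.Cert.Data.Tab
import Cfsg.Agent.Lib.HeType.Cert.Data.Cases

/-!
The contradictory choices of relations.
-/

set_option autoImplicit false
set_option maxRecDepth 100000

namespace CfsgLib.HeType.Cert

variable {G : Type*} [Group G] {el : ℕ → G} {s : G}

/-- A loop fact with a nontrivial left code forces an element with nonzero code to be trivial. -/
theorem Sys.collapse {dTab : List (List ℕ)} {rels : List (List ℕ × List ℕ)} {pts facts : List (List ℕ)}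
    {steps : List (List (List ℕ))} {n : ℕ} (S : Sys el s dTab rels)
    (hg : facts.all (fun B => B.all fun F => Nat.blt (fld F 2) 3) = true)
    (hs : stepsOk pts facts steps dTab rels 0 (n + 1) = true)
    (hl : (fld (bGet facts n 0) 0 == fld (bGet facts n 0) 4 && fld (bGet facts n 0) 1 == fld (bGet facts n 0) 5 &&
      fld (bGet facts n 0) 2 == 0 && fld (bGet facts n 0) 3 != 0) = true) :
    ∃ m, 0 < m ∧ m < 21504 ∧ el m = 1 := by
  obtain ⟨⟨-, hm⟩, hV⟩ := S.facts_valid pts hg (fun i hi => stepsOk_get hs i (Nat.zero_le _) (by omega)) n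
    (Nat.lt_succ_self n)
  simp only [Bool.and_eq_true, beq_iff_eq, bne_iff_ne] at hl
  obtain ⟨⟨⟨e1, e2⟩, e3⟩, e4⟩ := hl
  refine ⟨_, Nat.pos_of_ne_zero e4, hm, ?_⟩
  simp only [Valid, e3, pow_zero, mul_one, ← e1, ← e2] at hV
  rw [mul_assoc (el _)] at hV
  exact mul_eq_right.1 hV.symm

theorem r6f_check : (r6fFacts.all (fun B => B.all fun F => Nat.blt (fld F 2) 3) &&
    stepsOk r6fPts r6fFacts r6fSteps psiTab r6fRels 0 11 &&
    (fld (bGet r6fFacts 10 0) 0 == fld (bGet r6fFacts 10 0) 4 &&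
      fld (bGet r6fFacts 10 0) 1 == fld (bGet r6fFacts 10 0) 5 &&
      fld (bGet r6fFacts 10 0) 2 == 0 && fld (bGet r6fFacts 10 0) 3 != 0)) = true := by decide +kernel

theorem r6f_false (S : Sys el s psiTab r6fRels) : ∃ m, 0 < m ∧ m < 21504 ∧ el m = 1 :=
  S.collapse (Bool.and_eq_true _ _ ▸ (Bool.and_eq_true _ _ ▸ r6f_check).1).1
    (Bool.and_eq_true _ _ ▸ (Bool.and_eq_true _ _ ▸ r6f_check).1).2 (Bool.and_eq_true _ _ ▸ r6f_check).2

theorem r6_9535_check : (r6_9535Facts.all (fun B => B.all fun F => Nat.blt (fld F 2) 3) &&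
    stepsOk r6_9535Pts r6_9535Facts r6_9535Steps psiTab r6_9535Rels 0 9 &&
    (fld (bGet r6_9535Facts 8 0) 0 == fld (bGet r6_9535Facts 8 0) 4 &&
      fld (bGet r6_9535Facts 8 0) 1 == fld (bGet r6_9535Facts 8 0) 5 &&
      fld (bGet r6_9535Facts 8 0) 2 == 0 && fld (bGet r6_9535Facts 8 0) 3 != 0)) = true := by decide +kernel

theorem r6_9535_false (S : Sys el s psiTab r6_9535Rels) : ∃ m, 0 < m ∧ m < 21504 ∧ el m = 1 :=
  S.collapse (Bool.and_eq_true _ _ ▸ (Bool.and_eq_true _ _ ▸ r6_9535_check).1).1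
    (Bool.and_eq_true _ _ ▸ (Bool.and_eq_true _ _ ▸ r6_9535_check).1).2 (Bool.and_eq_true _ _ ▸ r6_9535_check).2

theorem r6_9598_check : (r6_9598Facts.all (fun B => B.all fun F => Nat.blt (fld F 2) 3) &&
    stepsOk r6_9598Pts r6_9598Facts r6_9598Steps psiTab r6_9598Rels 0 8 &&
    (fld (bGet r6_9598Facts 7 0) 0 == fld (bGet r6_9598Facts 7 0) 4 &&
      fld (bGet r6_9598Facts 7 0) 1 == fld (bGet r6_9598Facts 7 0) 5 &&
      fld (bGet r6_9598Facts 7 0) 2 == 0 && fld (bGet r6_9598Facts 7 0) 3 != 0)) = true := by decide +kernel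

theorem r6_9598_false (S : Sys el s psiTab r6_9598Rels) : ∃ m, 0 < m ∧ m < 21504 ∧ el m = 1 :=
  S.collapse (Bool.and_eq_true _ _ ▸ (Bool.and_eq_true _ _ ▸ r6_9598_check).1).1
    (Bool.and_eq_true _ _ ▸ (Bool.and_eq_true _ _ ▸ r6_9598_check).1).2 (Bool.and_eq_true _ _ ▸ r6_9598_check).2

theorem r6_9599_check : (r6_9599Facts.all (fun B => B.all fun F => Nat.blt (fld F 2) 3) &&
    stepsOk r6_9599Pts r6_9599Facts r6_9599Steps psiTab r6_9599Rels 0 9 &&
    (fld (bGet r6_9599Facts 8 0) 0 == fld (bGet r6_9599Facts 8 0) 4 &&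
      fld (bGet r6_9599Facts 8 0) 1 == fld (bGet r6_9599Facts 8 0) 5 &&
      fld (bGet r6_9599Facts 8 0) 2 == 0 && fld (bGet r6_9599Facts 8 0) 3 != 0)) = true := by decide +kernel

theorem r6_9599_false (S : Sys el s psiTab r6_9599Rels) : ∃ m, 0 < m ∧ m < 21504 ∧ el m = 1 :=
  S.collapse (Bool.and_eq_true _ _ ▸ (Bool.and_eq_true _ _ ▸ r6_9599_check).1).1
    (Bool.and_eq_true _ _ ▸ (Bool.and_eq_true _ _ ▸ r6_9599_check).1).2 (Bool.and_eq_true _ _ ▸ r6_9599_check).2

theorem r6_19342_check : (r6_19342Facts.all (fun B => B.all fun F => Nat.blt (fld F 2) 3) &&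
    stepsOk r6_19342Pts r6_19342Facts r6_19342Steps psiTab r6_19342Rels 0 12 &&
    (fld (bGet r6_19342Facts 11 0) 0 == fld (bGet r6_19342Facts 11 0) 4 &&
      fld (bGet r6_19342Facts 11 0) 1 == fld (bGet r6_19342Facts 11 0) 5 &&
      fld (bGet r6_19342Facts 11 0) 2 == 0 && fld (bGet r6_19342Facts 11 0) 3 != 0)) = true := by decide +kernel

theorem r6_19342_false (S : Sys el s psiTab r6_19342Rels) : ∃ m, 0 < m ∧ m < 21504 ∧ el m = 1 :=
  S.collapse (Bool.and_eq_true _ _ ▸ (Bool.and_eq_true _ _ ▸ r6_19342_check).1).1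
    (Bool.and_eq_true _ _ ▸ (Bool.and_eq_true _ _ ▸ r6_19342_check).1).2 (Bool.and_eq_true _ _ ▸ r6_19342_check).2

theorem r6_19343_check : (r6_19343Facts.all (fun B => B.all fun F => Nat.blt (fld F 2) 3) &&
    stepsOk r6_19343Pts r6_19343Facts r6_19343Steps psiTab r6_19343Rels 0 11 &&
    (fld (bGet r6_19343Facts 10 0) 0 == fld (bGet r6_19343Facts 10 0) 4 &&
      fld (bGet r6_19343Facts 10 0) 1 == fld (bGet r6_19343Facts 10 0) 5 &&
      fld (bGet r6_19343Facts 10 0) 2 == 0 && fld (bGet r6_19343Facts 10 0) 3 != 0)) = true := by decide +kernel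

theorem r6_19343_false (S : Sys el s psiTab r6_19343Rels) : ∃ m, 0 < m ∧ m < 21504 ∧ el m = 1 :=
  S.collapse (Bool.and_eq_true _ _ ▸ (Bool.and_eq_true _ _ ▸ r6_19343_check).1).1
    (Bool.and_eq_true _ _ ▸ (Bool.and_eq_true _ _ ▸ r6_19343_check).1).2 (Bool.and_eq_true _ _ ▸ r6_19343_check).2

theorem r6_19406_check : (r6_19406Facts.all (fun B => B.all fun F => Nat.blt (fld F 2) 3) &&
    stepsOk r6_19406Pts r6_19406Facts r6_19406Steps psiTab r6_19406Rels 0 12 &&
    (fld (bGet r6_19406Facts 11 0) 0 == fld (bGet r6_19406Facts 11 0) 4 &&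
      fld (bGet r6_19406Facts 11 0) 1 == fld (bGet r6_19406Facts 11 0) 5 &&
      fld (bGet r6_19406Facts 11 0) 2 == 0 && fld (bGet r6_19406Facts 11 0) 3 != 0)) = true := by decide +kernel

theorem r6_19406_false (S : Sys el s psiTab r6_19406Rels) : ∃ m, 0 < m ∧ m < 21504 ∧ el m = 1 :=
  S.collapse (Bool.and_eq_true _ _ ▸ (Bool.and_eq_true _ _ ▸ r6_19406_check).1).1
    (Bool.and_eq_true _ _ ▸ (Bool.and_eq_true _ _ ▸ r6_19406_check).1).2 (Bool.and_eq_true _ _ ▸ r6_19406_check).2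

theorem z15746_check : (z15746Facts.all (fun B => B.all fun F => Nat.blt (fld F 2) 3) &&
    stepsOk z15746Pts z15746Facts z15746Steps psiTab z15746Rels 0 24 &&
    (fld (bGet z15746Facts 23 0) 0 == fld (bGet z15746Facts 23 0) 4 &&
      fld (bGet z15746Facts 23 0) 1 == fld (bGet z15746Facts 23 0) 5 &&
      fld (bGet z15746Facts 23 0) 2 == 0 && fld (bGet z15746Facts 23 0) 3 != 0)) = true := by decide +kernel

theorem z15746_false (S : Sys el s psiTab z15746Rels) : ∃ m, 0 < m ∧ m < 21504 ∧ el m = 1 :=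
  S.collapse (Bool.and_eq_true _ _ ▸ (Bool.and_eq_true _ _ ▸ z15746_check).1).1
    (Bool.and_eq_true _ _ ▸ (Bool.and_eq_true _ _ ▸ z15746_check).1).2 (Bool.and_eq_true _ _ ▸ z15746_check).2

theorem z15750_check : (z15750Facts.all (fun B => B.all fun F => Nat.blt (fld F 2) 3) &&
    stepsOk z15750Pts z15750Facts z15750Steps psiTab z15750Rels 0 34 &&
    (fld (bGet z15750Facts 33 0) 0 == fld (bGet z15750Facts 33 0) 4 &&
      fld (bGet z15750Facts 33 0) 1 == fld (bGet z15750Facts 33 0) 5 &&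
      fld (bGet z15750Facts 33 0) 2 == 0 && fld (bGet z15750Facts 33 0) 3 != 0)) = true := by decide +kernel

theorem z15750_false (S : Sys el s psiTab z15750Rels) : ∃ m, 0 < m ∧ m < 21504 ∧ el m = 1 :=
  S.collapse (Bool.and_eq_true _ _ ▸ (Bool.and_eq_true _ _ ▸ z15750_check).1).1
    (Bool.and_eq_true _ _ ▸ (Bool.and_eq_true _ _ ▸ z15750_check).1).2 (Bool.and_eq_true _ _ ▸ z15750_check).2

theorem z15770_check : (z15770Facts.all (fun B => B.all fun F => Nat.blt (fld F 2) 3) &&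
    stepsOk z15770Pts z15770Facts z15770Steps psiTab z15770Rels 0 34 &&
    (fld (bGet z15770Facts 33 0) 0 == fld (bGet z15770Facts 33 0) 4 &&
      fld (bGet z15770Facts 33 0) 1 == fld (bGet z15770Facts 33 0) 5 &&
      fld (bGet z15770Facts 33 0) 2 == 0 && fld (bGet z15770Facts 33 0) 3 != 0)) = true := by decide +kernel

theorem z15770_false (S : Sys el s psiTab z15770Rels) : ∃ m, 0 < m ∧ m < 21504 ∧ el m = 1 :=
  S.collapse (Bool.and_eq_true _ _ ▸ (Bool.and_eq_true _ _ ▸ z15770_check).1).1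
    (Bool.and_eq_true _ _ ▸ (Bool.and_eq_true _ _ ▸ z15770_check).1).2 (Bool.and_eq_true _ _ ▸ z15770_check).2

theorem z15774_check : (z15774Facts.all (fun B => B.all fun F => Nat.blt (fld F 2) 3) &&
    stepsOk z15774Pts z15774Facts z15774Steps psiTab z15774Rels 0 25 &&
    (fld (bGet z15774Facts 24 0) 0 == fld (bGet z15774Facts 24 0) 4 &&
      fld (bGet z15774Facts 24 0) 1 == fld (bGet z15774Facts 24 0) 5 &&
      fld (bGet z15774Facts 24 0) 2 == 0 && fld (bGet z15774Facts 24 0) 3 != 0)) = true := by decide +kernel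

theorem z15774_false (S : Sys el s psiTab z15774Rels) : ∃ m, 0 < m ∧ m < 21504 ∧ el m = 1 :=
  S.collapse (Bool.and_eq_true _ _ ▸ (Bool.and_eq_true _ _ ▸ z15774_check).1).1
    (Bool.and_eq_true _ _ ▸ (Bool.and_eq_true _ _ ▸ z15774_check).1).2 (Bool.and_eq_true _ _ ▸ z15774_check).2

theorem z15810_check : (z15810Facts.all (fun B => B.all fun F => Nat.blt (fld F 2) 3) &&
    stepsOk z15810Pts z15810Facts z15810Steps psiTab z15810Rels 0 26 &&
    (fld (bGet z15810Facts 25 0) 0 == fld (bGet z15810Facts 25 0) 4 &&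
      fld (bGet z15810Facts 25 0) 1 == fld (bGet z15810Facts 25 0) 5 &&
      fld (bGet z15810Facts 25 0) 2 == 0 && fld (bGet z15810Facts 25 0) 3 != 0)) = true := by decide +kernel

theorem z15810_false (S : Sys el s psiTab z15810Rels) : ∃ m, 0 < m ∧ m < 21504 ∧ el m = 1 :=
  S.collapse (Bool.and_eq_true _ _ ▸ (Bool.and_eq_true _ _ ▸ z15810_check).1).1
    (Bool.and_eq_true _ _ ▸ (Bool.and_eq_true _ _ ▸ z15810_check).1).2 (Bool.and_eq_true _ _ ▸ z15810_check).2

theorem z15814_check : (z15814Facts.all (fun B => B.all fun F => Nat.blt (fld F 2) 3) &&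
    stepsOk z15814Pts z15814Facts z15814Steps psiTab z15814Rels 0 34 &&
    (fld (bGet z15814Facts 33 0) 0 == fld (bGet z15814Facts 33 0) 4 &&
      fld (bGet z15814Facts 33 0) 1 == fld (bGet z15814Facts 33 0) 5 &&
      fld (bGet z15814Facts 33 0) 2 == 0 && fld (bGet z15814Facts 33 0) 3 != 0)) = true := by decide +kernel

theorem z15814_false (S : Sys el s psiTab z15814Rels) : ∃ m, 0 < m ∧ m < 21504 ∧ el m = 1 :=
  S.collapse (Bool.and_eq_true _ _ ▸ (Bool.and_eq_true _ _ ▸ z15814_check).1).1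
    (Bool.and_eq_true _ _ ▸ (Bool.and_eq_true _ _ ▸ z15814_check).1).2 (Bool.and_eq_true _ _ ▸ z15814_check).2

theorem z15834_check : (z15834Facts.all (fun B => B.all fun F => Nat.blt (fld F 2) 3) &&
    stepsOk z15834Pts z15834Facts z15834Steps psiTab z15834Rels 0 34 &&
    (fld (bGet z15834Facts 33 0) 0 == fld (bGet z15834Facts 33 0) 4 &&
      fld (bGet z15834Facts 33 0) 1 == fld (bGet z15834Facts 33 0) 5 &&
      fld (bGet z15834Facts 33 0) 2 == 0 && fld (bGet z15834Facts 33 0) 3 != 0)) = true := by decide +kernel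

theorem z15834_false (S : Sys el s psiTab z15834Rels) : ∃ m, 0 < m ∧ m < 21504 ∧ el m = 1 :=
  S.collapse (Bool.and_eq_true _ _ ▸ (Bool.and_eq_true _ _ ▸ z15834_check).1).1
    (Bool.and_eq_true _ _ ▸ (Bool.and_eq_true _ _ ▸ z15834_check).1).2 (Bool.and_eq_true _ _ ▸ z15834_check).2

theorem z19851_check : (z19851Facts.all (fun B => B.all fun F => Nat.blt (fld F 2) 3) &&
    stepsOk z19851Pts z19851Facts z19851Steps psiTab z19851Rels 0 24 &&
    (fld (bGet z19851Facts 23 0) 0 == fld (bGet z19851Facts 23 0) 4 &&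
      fld (bGet z19851Facts 23 0) 1 == fld (bGet z19851Facts 23 0) 5 &&
      fld (bGet z19851Facts 23 0) 2 == 0 && fld (bGet z19851Facts 23 0) 3 != 0)) = true := by decide +kernel

theorem z19851_false (S : Sys el s psiTab z19851Rels) : ∃ m, 0 < m ∧ m < 21504 ∧ el m = 1 :=
  S.collapse (Bool.and_eq_true _ _ ▸ (Bool.and_eq_true _ _ ▸ z19851_check).1).1
    (Bool.and_eq_true _ _ ▸ (Bool.and_eq_true _ _ ▸ z19851_check).1).2 (Bool.and_eq_true _ _ ▸ z19851_check).2

theorem z19855_check : (z19855Facts.all (fun B => B.all fun F => Nat.blt (fld F 2) 3) &&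
    stepsOk z19855Pts z19855Facts z19855Steps psiTab z19855Rels 0 34 &&
    (fld (bGet z19855Facts 33 0) 0 == fld (bGet z19855Facts 33 0) 4 &&
      fld (bGet z19855Facts 33 0) 1 == fld (bGet z19855Facts 33 0) 5 &&
      fld (bGet z19855Facts 33 0) 2 == 0 && fld (bGet z19855Facts 33 0) 3 != 0)) = true := by decide +kernel

theorem z19855_false (S : Sys el s psiTab z19855Rels) : ∃ m, 0 < m ∧ m < 21504 ∧ el m = 1 :=
  S.collapse (Bool.and_eq_true _ _ ▸ (Bool.and_eq_true _ _ ▸ z19855_check).1).1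
    (Bool.and_eq_true _ _ ▸ (Bool.and_eq_true _ _ ▸ z19855_check).1).2 (Bool.and_eq_true _ _ ▸ z19855_check).2

theorem z19859_check : (z19859Facts.all (fun B => B.all fun F => Nat.blt (fld F 2) 3) &&
    stepsOk z19859Pts z19859Facts z19859Steps psiTab z19859Rels 0 34 &&
    (fld (bGet z19859Facts 33 0) 0 == fld (bGet z19859Facts 33 0) 4 &&
      fld (bGet z19859Facts 33 0) 1 == fld (bGet z19859Facts 33 0) 5 &&
      fld (bGet z19859Facts 33 0) 2 == 0 && fld (bGet z19859Facts 33 0) 3 != 0)) = true := by decide +kernel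

theorem z19859_false (S : Sys el s psiTab z19859Rels) : ∃ m, 0 < m ∧ m < 21504 ∧ el m = 1 :=
  S.collapse (Bool.and_eq_true _ _ ▸ (Bool.and_eq_true _ _ ▸ z19859_check).1).1
    (Bool.and_eq_true _ _ ▸ (Bool.and_eq_true _ _ ▸ z19859_check).1).2 (Bool.and_eq_true _ _ ▸ z19859_check).2

theorem z19863_check : (z19863Facts.all (fun B => B.all fun F => Nat.blt (fld F 2) 3) &&
    stepsOk z19863Pts z19863Facts z19863Steps psiTab z19863Rels 0 25 &&
    (fld (bGet z19863Facts 24 0) 0 == fld (bGet z19863Facts 24 0) 4 &&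
      fld (bGet z19863Facts 24 0) 1 == fld (bGet z19863Facts 24 0) 5 &&
      fld (bGet z19863Facts 24 0) 2 == 0 && fld (bGet z19863Facts 24 0) 3 != 0)) = true := by decide +kernel

theorem z19863_false (S : Sys el s psiTab z19863Rels) : ∃ m, 0 < m ∧ m < 21504 ∧ el m = 1 :=
  S.collapse (Bool.and_eq_true _ _ ▸ (Bool.and_eq_true _ _ ▸ z19863_check).1).1
    (Bool.and_eq_true _ _ ▸ (Bool.and_eq_true _ _ ▸ z19863_check).1).2 (Bool.and_eq_true _ _ ▸ z19863_check).2

theorem z19915_check : (z19915Facts.all (fun B => B.all fun F => Nat.blt (fld F 2) 3) &&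
    stepsOk z19915Pts z19915Facts z19915Steps psiTab z19915Rels 0 26 &&
    (fld (bGet z19915Facts 25 0) 0 == fld (bGet z19915Facts 25 0) 4 &&
      fld (bGet z19915Facts 25 0) 1 == fld (bGet z19915Facts 25 0) 5 &&
      fld (bGet z19915Facts 25 0) 2 == 0 && fld (bGet z19915Facts 25 0) 3 != 0)) = true := by decide +kernel

theorem z19915_false (S : Sys el s psiTab z19915Rels) : ∃ m, 0 < m ∧ m < 21504 ∧ el m = 1 :=
  S.collapse (Bool.and_eq_true _ _ ▸ (Bool.and_eq_true _ _ ▸ z19915_check).1).1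
    (Bool.and_eq_true _ _ ▸ (Bool.and_eq_true _ _ ▸ z19915_check).1).2 (Bool.and_eq_true _ _ ▸ z19915_check).2

theorem z19919_check : (z19919Facts.all (fun B => B.all fun F => Nat.blt (fld F 2) 3) &&
    stepsOk z19919Pts z19919Facts z19919Steps psiTab z19919Rels 0 34 &&
    (fld (bGet z19919Facts 33 0) 0 == fld (bGet z19919Facts 33 0) 4 &&
      fld (bGet z19919Facts 33 0) 1 == fld (bGet z19919Facts 33 0) 5 &&
      fld (bGet z19919Facts 33 0) 2 == 0 && fld (bGet z19919Facts 33 0) 3 != 0)) = true := by decide +kernel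

theorem z19919_false (S : Sys el s psiTab z19919Rels) : ∃ m, 0 < m ∧ m < 21504 ∧ el m = 1 :=
  S.collapse (Bool.and_eq_true _ _ ▸ (Bool.and_eq_true _ _ ▸ z19919_check).1).1
    (Bool.and_eq_true _ _ ▸ (Bool.and_eq_true _ _ ▸ z19919_check).1).2 (Bool.and_eq_true _ _ ▸ z19919_check).2

theorem z19923_check : (z19923Facts.all (fun B => B.all fun F => Nat.blt (fld F 2) 3) &&
    stepsOk z19923Pts z19923Facts z19923Steps psiTab z19923Rels 0 34 &&
    (fld (bGet z19923Facts 33 0) 0 == fld (bGet z19923Facts 33 0) 4 &&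
      fld (bGet z19923Facts 33 0) 1 == fld (bGet z19923Facts 33 0) 5 &&
      fld (bGet z19923Facts 33 0) 2 == 0 && fld (bGet z19923Facts 33 0) 3 != 0)) = true := by decide +kernel

theorem z19923_false (S : Sys el s psiTab z19923Rels) : ∃ m, 0 < m ∧ m < 21504 ∧ el m = 1 :=
  S.collapse (Bool.and_eq_true _ _ ▸ (Bool.and_eq_true _ _ ▸ z19923_check).1).1
    (Bool.and_eq_true _ _ ▸ (Bool.and_eq_true _ _ ▸ z19923_check).1).2 (Bool.and_eq_true _ _ ▸ z19923_check).2

end CfsgLib.HeType.Cert
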