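import Cfsg.Agent.Lib.HeType.Cert.Sys

/-!
Conjugation of codes along words, and the codes with prescribed conjugation.
-/

set_option autoImplicit false
set_option maxRecDepth 100000

namespace CfsgLib.HeType.Cert

/-- Follow a code by conjugation with the letters of a reversed word. The hints are the images for code letters
and the table places for the others. -/
def chainOk : List ℕ → List ℕ → ℕ → ℕ → Bool
  | [], _, x, z => x == z
  | _ :: _, [], _, _ => false
  | l :: ls, h :: hs, x, z =>
    if l < 21504 then Nat.blt x 21504 && Nat.blt h 21504 && fMul l x == fMul h l && chainOk ls hs h z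
    else frN (bGet psiTab h 0) fun D =>
      if l = 21505 then fld' D 0 == x && chainOk ls hs (fld' D 2) z
      else l == 21506 && fld' D 2 == x && chainOk ls hs (fld' D 0) z

/-- The classes allowed by the conditions. -/
def lPre (gs : List (ℕ × ℕ)) (l : ℕ) : Bool :=
  gs.all fun p => lWalk true (lPaths.getD (p.1 / 128) []) l 0 % 256 ==
    lWalk true (lPaths.getD l []) (p.2 / 128) 0 % 256

/-- All codes `z` with `z x = y z` for the given pairs and with the further condition are in the list. -/
def candOk (gs : List (ℕ × ℕ)) (extra : ℕ → Bool) (cands : List ℕ) : Bool :=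
  (List.range 168).all fun l => !lPre gs l || (List.range 128).all fun v => frN (v + 128 * l) fun z =>
    !(gs.all (fun p => fMul z p.1 == fMul p.2 z) && extra z) || cands.contains z

variable {G : Type*} [Group G] {t : G} {Q : Subgroup G} {x y r : G} {a b : ℕ → G}

theorem Sys.chain {el : ℕ → G} {s : G} {R : List (List ℕ × List ℕ)} (S : Sys el s psiTab R) :
    ∀ (ls hs : List ℕ) (u z : ℕ), chainOk ls hs u z = true →
      evW el s ls.reverse * el u * (evW el s ls.reverse)⁻¹ = el z
  | [], hs, u, z, h => by
    rw [chainOk, beq_iff_eq] at h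
    simp [evW, h]
  | l :: ls, [], u, z, h => by simp [chainOk] at h
  | l :: ls, k :: hs, u, z, h => by
    have hw : evW el s (l :: ls).reverse = evW el s ls.reverse * evL el s l := by simp [evW]
    suffices ∀ u', chainOk ls hs u' z = true → evL el s l * el u * (evL el s l)⁻¹ = el u' →
        evW el s (l :: ls).reverse * el u * (evW el s (l :: ls).reverse)⁻¹ = el z by
      rw [chainOk] at h
      by_cases hl : l < 21504
      · simp only [if_pos hl, Bool.and_eq_true, Nat.blt_eq, beq_iff_eq] at h
        obtain ⟨⟨⟨hu, hk⟩, e⟩, h⟩ := h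
        refine this _ h ?_
        rw [evL, if_pos hl, (S.mul l u hl hu).2, e, ← (S.mul k l hk hl).2, mul_inv_cancel_right]
      · rw [if_neg hl, frN_eq] at h
        obtain ⟨-, t1, t2⟩ := S.tab' k
        have s2 : s ^ 2 = s⁻¹ := eq_inv_of_mul_eq_one_left (by rw [← pow_succ, S.cube])
        by_cases h1 : l = 21505
        · simp only [if_pos h1, Bool.and_eq_true, beq_iff_eq] at h
          obtain ⟨rfl, h⟩ := h
          refine this _ h ?_
          subst h1
          rw [evL, if_neg hl, show 21505 - 21504 = 1 from rfl, pow_one]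
          rw [s2] at t2
          calc s * el (fld' (bGet psiTab k 0) 0) * s⁻¹ = s * (el (fld' (bGet psiTab k 0) 0) * s⁻¹) := mul_assoc _ _ _
            _ = _ := by rw [t2, mul_inv_cancel_left]
        · simp only [if_neg h1, Bool.and_eq_true, beq_iff_eq] at h
          obtain ⟨⟨rfl, rfl⟩, h⟩ := h
          refine this _ h ?_
          rw [evL, if_neg hl, show 21506 - 21504 = 2 from rfl, ← t2, mul_inv_cancel_right]
    intro u' h' e
    rw [hw, mul_inv_rev, ← S.chain ls hs u' z h', ← e]
    simp only [mul_assoc]

variable (C : Coords t Q [65, 4, 2, 72, 120, 96] true x y r a b)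

include C

theorem code_div {c d : ℕ} (hc : c < 21504) (hd : d < 21504) :
    fMul c d / 128 = lWalk true (lPaths.getD (d / 128) []) (c / 128) 0 % 256 := by
  rw [fMul_eq hc hd (C.cEl_mul hc hd).2]
  simp only [cMul]
  rw [Nat.add_mul_div_left _ _ (by norm_num), Nat.div_eq_of_lt (qMul_lt _ _), Nat.zero_add]

/-- An element centralising `t` with prescribed conjugation has one of the listed codes. -/
theorem exists_cand [Finite G] {gs : List (ℕ × ℕ)} {extra : ℕ → Bool} {cands : List ℕ}
    (hc : candOk gs extra cands = true) {X : G} (ht : X * t * X⁻¹ = t)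
    (hlt : gs.all (fun p => Nat.blt p.1 21504 && Nat.blt p.2 21504) = true)
    (hgs : ∀ p ∈ gs, X * cEl t a b x y r p.1 * X⁻¹ = cEl t a b x y r p.2)
    (hex : ∀ z < 21504, cEl t a b x y r z = X → extra z = true) :
    ∃ z ∈ cands, z < 21504 ∧ cEl t a b x y r z = X := by
  obtain ⟨z, hz, e⟩ := C.cEl_surj (g := X)
    (Subgroup.mem_centralizer_singleton_iff.2 (mul_inv_eq_iff_eq_mul.1 ht))
  have hb : ∀ p ∈ gs, p.1 < 21504 ∧ p.2 < 21504 := fun p hp => by
    simpa only [Bool.and_eq_true, Nat.blt_eq] using List.all_eq_true.1 hlt p hp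
  have hq : ∀ p ∈ gs, fMul z p.1 = fMul p.2 z := fun p hp => by
    obtain ⟨h1, h2⟩ := hb p hp
    refine C.cEl_inj (el_mul C hz h1).1 (el_mul C h2 hz).1 ?_
    rw [← (el_mul C hz h1).2, ← (el_mul C h2 hz).2, e, ← hgs p hp, inv_mul_cancel_right]
  have h := List.all_eq_true.1 hc (z / 128) (List.mem_range.2 (by omega))
  rw [Bool.or_eq_true, Bool.not_eq_true', Bool.eq_false_iff] at h
  rcases h with h | h
  · refine absurd ?_ h
    refine List.all_eq_true.2 fun p hp => ?_
    obtain ⟨h1, h2⟩ := hb p hp
    rw [beq_iff_eq, ← code_div C hz h1, ← code_div C h2 hz, hq p hp]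
  · have h := List.all_eq_true.1 h (z % 128) (List.mem_range.2 (Nat.mod_lt _ (by norm_num)))
    rw [frN_eq, Nat.mod_add_div, Bool.or_eq_true, Bool.not_eq_true', Bool.eq_false_iff] at h
    rcases h with h | h
    · refine absurd ?_ h
      rw [Bool.and_eq_true]
      exact ⟨List.all_eq_true.2 fun p hp => beq_iff_eq.2 (hq p hp), hex z hz e⟩
    · exact ⟨z, List.contains_iff_mem.1 h, hz, e⟩

end CfsgLib.HeType.Cert
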