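import Cfsg.Agent.Lib.HeType.Coords.Basic
import Cfsg.Agent.Lib.HeType.Cert.Data.Fast

/-!
# A fast multiplication of the codes of the centraliser in the split case
-/

set_option autoImplicit false

namespace CfsgLib.HeType.Cert

/-- The images of the six generators under the third element in the split case. -/
abbrev R0 : List ℕ := [65, 4, 2, 72, 120, 96]

/-- An entry of a packed table with rows in blocks of 16. -/
def tGet (L : List (List ℕ)) (w i j : ℕ) : ℕ :=
  (((L.getD (i / 16) []).getD (i % 16) 0) >>> (w * j)) % 2 ^ w

/-- The fast product in the extraspecial group. -/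
def fQ (v w : ℕ) : ℕ := tGet qTab 8 v w

/-- The fast image under the word of a class. -/
def fA (l v : ℕ) : ℕ := tGet aTab 8 l v

/-- The fast product of classes. -/
def fM (l m : ℕ) : ℕ := tGet mTab 9 l m

/-- The fast product of codes. -/
def fMul (c d : ℕ) : ℕ :=
  fQ (fQ (c % 128) (fA (c / 128) (d % 128))) (64 * (fM (c / 128) (d / 128) / 256)) +
    128 * (fM (c / 128) (d / 128) % 256)

end CfsgLib.HeType.Cert
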