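import Cfsg.Agent.Lib.HeType.Cert.Chain
import Cfsg.Agent.Lib.HeType.Cert.CasesCheck
import Cfsg.Agent.Lib.HeType.Cert.Data.Chains
import Cfsg.Agent.Lib.HeType.Cert.Data.Held
import Cfsg.Agent.Lib.HeType.Cert.Data.Mathieu

/-!
The relations of the element of order three: those of the Held group, or those with an element of order twenty-three.
-/

set_option autoImplicit false
set_option maxRecDepth 100000

namespace CfsgLib.HeType.Cert

/-- The word of the relation with the involution. -/
def qqW : List ℕ := [8, 21505, 8, 21505]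

/-- The first conjugated word. -/
def op6W : List ℕ := [0, 21506, 10496, 21506, 0, 21505, 8209, 21506, 0, 21505, 128, 21505, 0]

/-- The second conjugated word. -/
def op9W : List ℕ := [0, 21506, 10496, 21506, 1920, 21505, 8, 21506, 4096, 21505, 128, 21505, 0]

/-- The relations true in all cases. -/
def stdW : List (List ℕ) := [[], [21505, 21506], [21506, 21505], [21505, 21505, 21505]]

/-- The conditions on conjugation in a list of chains. -/
def gsOf (L : List (List ℕ × ℕ × ℕ)) : List (ℕ × ℕ) := L.map fun p => (p.2.1, p.2.2)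

theorem qq_chains : qqChains.all (fun p => chainOk qqW.reverse p.1 p.2.1 p.2.2) = true := by decide +kernel

theorem op6_chains : (op6Chains.take 5).all (fun p => chainOk op6W.reverse p.1 p.2.1 p.2.2) = true := by
  decide +kernel

theorem op6_square : chainOk [0, 21506, 10496, 21506, 0, 21505].reverse (op6Chains.getD 5 ([], 0, 0)).1 7 19545 =
    true := by decide +kernel

theorem op9_chains : (op9Chains.take 7).all (fun p => chainOk op9W.reverse p.1 p.2.1 p.2.2) = true := by
  decide +kernel

theorem qq_lt : (gsOf qqChains).all (fun p => Nat.blt p.1 21504 && Nat.blt p.2 21504) = true := by decide +kernel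

theorem op6_lt : (gsOf (op6Chains.take 5)).all (fun p => Nat.blt p.1 21504 && Nat.blt p.2 21504) = true := by
  decide +kernel

theorem op9_lt : (gsOf (op9Chains.take 7)).all (fun p => Nat.blt p.1 21504 && Nat.blt p.2 21504) = true := by
  decide +kernel

theorem qq_cand : candOk (gsOf qqChains) (fun _ => true) [16436, 16437, 16500, 16501] = true := by decide +kernel

theorem op6_cand : candOk (gsOf (op6Chains.take 5)) (fun z => fMul z z == 19545)
    [9534, 9535, 9598, 9599, 19342, 19343, 19406, 19407] = true := by decide +kernel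

theorem op9_cand : candOk (gsOf (op9Chains.take 7)) (fun z => fMul z z == 0)
    [15746, 15750, 15770, 15774, 15810, 15814, 15834, 15838, 19851, 19855, 19859, 19863, 19915, 19919, 19923, 19927] = true := by decide +kernel

variable {G : Type*} [Group G] {t : G} {Q : Subgroup G} {x y r : G} {a b : ℕ → G}

theorem evW_append (el : ℕ → G) (s : G) (A B : List ℕ) : evW el s (A ++ B) = evW el s A * evW el s B := by
  simp [evW]

theorem el_t (C : Coords t Q [65, 4, 2, 72, 120, 96] true x y r a b) : cEl t a b x y r 64 = t := by
  show qEl t a b (64 % 128) * lWord x y r (lPaths.getD (64 / 128) []) = t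
  rw [show 64 % 128 = 64 by norm_num, show 64 / 128 = 0 by norm_num, C.frame.el_top,
    show lPaths.getD 0 [] = [] by decide +kernel]
  simp [lWord]

variable {s : G}

theorem Sys.rels_of {el : ℕ → G} {R R' : List (List ℕ × List ℕ)} (S : Sys el s psiTab R) {ws : List (List ℕ)}
    (h : R'.map Prod.fst = stdW ++ ws) (hw : ∀ w ∈ ws, evW el s w = 1) : Sys el s psiTab R' := by
  refine S.withRels fun p hp => ?_
  have : p.1 ∈ stdW ++ ws := h ▸ List.mem_map.2 ⟨p, hp, rfl⟩
  rcases List.mem_append.1 this with h | h
  · simp only [stdW, List.mem_cons, List.not_mem_nil, or_false] at h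
    rcases h with h | h | h | h <;> rw [h]
    · rfl
    all_goals simp only [evW, evL, List.map_cons, List.map_nil, List.prod_cons, List.prod_nil, mul_one,
      show ¬ (21505 : ℕ) < 21504 by norm_num, show ¬ (21506 : ℕ) < 21504 by norm_num, if_false,
      show (21505 : ℕ) - 21504 = 1 from rfl, show (21506 : ℕ) - 21504 = 2 from rfl]
    all_goals rw [← S.cube]; group
  · exact hw _ h

/-- A word with known code closed up by the inverse code. -/
theorem Sys.close {el : ℕ → G} {R : List (List ℕ × List ℕ)} (S : Sys el s psiTab R) {W : List ℕ} {z : ℕ} (zi : ℕ)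
    (e : el z = evW el s W) (h : (Nat.blt z 21504 && Nat.blt zi 21504 && fMul z zi == 0) = true) :
    evW el s (W ++ [zi]) = 1 := by
  simp only [Bool.and_eq_true, Nat.blt_eq, beq_iff_eq] at h
  obtain ⟨⟨h1, h2⟩, h3⟩ := h
  rw [evW_append, ← e, show evW el s [zi] = el zi by simp [evW, evL, h2], (S.mul _ _ h1 h2).2, h3, S.one]

/-- The square of a conjugated code. -/
theorem Sys.conj_sq {el : ℕ → G} {R : List (List ℕ × List ℕ)} (S : Sys el s psiTab R) {B P : List ℕ} {c cc : ℕ}
    (hc : (Nat.blt c 21504 && fMul c c == cc && invP P.reverse B && P.length == B.length) = true) :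
    evW el s (B ++ [c] ++ P) * evW el s (B ++ [c] ++ P) = evW el s B * el cc * (evW el s B)⁻¹ := by
  simp only [Bool.and_eq_true, Nat.blt_eq, beq_iff_eq] at hc
  obtain ⟨⟨⟨hc, rfl⟩, hi⟩, hl⟩ := hc
  have h := S.invP_spec P.reverse B B.length hi
  rw [List.take_length, List.take_of_length_le (by simp [hl]), List.reverse_reverse] at h
  have hP : evW el s P = (evW el s B)⁻¹ := eq_inv_of_mul_eq_one_left h
  rw [evW_append, evW_append, hP, show evW el s [c] = el c by simp [evW, evL, hc], ← (S.mul _ _ hc hc).2]
  group

variable [Finite G] (C : Coords t Q [65, 4, 2, 72, 120, 96] true x y r a b)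

include C

theorem false_of_collapse (h : ∃ m, 0 < m ∧ m < 21504 ∧ cEl t a b x y r m = 1) : False := by
  obtain ⟨m, h0, h1, h2⟩ := h
  have := C.cEl_inj h1 (show 0 < 21504 by norm_num) (h2.trans C.cEl_one.symm)
  omega

/-- The value of a word from the chains of its conjugation. -/
theorem word_code {R : List (List ℕ × List ℕ)} (S : Sys (cEl t a b x y r) s psiTab R) {W : List ℕ}
    {L : List (List ℕ × ℕ × ℕ)} (h : L.all (fun p => chainOk W.reverse p.1 p.2.1 p.2.2) = true)
    (ht : (64, 64) ∈ gsOf L) (hlt : (gsOf L).all (fun p => Nat.blt p.1 21504 && Nat.blt p.2 21504) = true)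
    {extra : ℕ → Bool} {cands : List ℕ} (hc : candOk (gsOf L) extra cands = true)
    (hex : ∀ z < 21504, cEl t a b x y r z = evW (cEl t a b x y r) s W → extra z = true) :
    ∃ z ∈ cands, z < 21504 ∧ cEl t a b x y r z = evW (cEl t a b x y r) s W := by
  have hg : ∀ p ∈ gsOf L, evW (cEl t a b x y r) s W * cEl t a b x y r p.1 * (evW (cEl t a b x y r) s W)⁻¹ =
      cEl t a b x y r p.2 := fun p hp => by
    obtain ⟨q, hq, rfl⟩ := List.mem_map.1 hp
    have := S.chain _ _ _ _ (List.all_eq_true.1 h q hq)
    rwa [List.reverse_reverse] at this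
  refine exists_cand C hc ?_ hlt hg hex
  have := hg _ ht
  simpa only [el_t C] using this

/-- The relation with the involution, after changing the element of order three by the central involution. -/
theorem exists_qq (h3 : s ^ 3 = 1) (hst : s * t * s⁻¹ = cEl t a b x y r 1) (hψ : TabConj (cEl t a b x y r) s) :
    ∃ s' : G, Sys (cEl t a b x y r) s' psiTab [] ∧ s' * t * s'⁻¹ = cEl t a b x y r 1 ∧
      evW (cEl t a b x y r) s' (qqW ++ [16436]) = 1 := by
  have S := sys_base C h3 hψ
  obtain ⟨z, hz, hzl, e⟩ := word_code C S qq_chains (by decide +kernel) qq_lt qq_cand fun _ _ _ => rfl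
  let q := cEl t a b x y r 8
  have hqq : q * q = 1 := by
    rw [(el_mul C (by norm_num : 8 < 21504) (by norm_num : 8 < 21504)).2, show fMul 8 8 = 0 by decide +kernel,
      C.cEl_one]
  have hW : evW (cEl t a b x y r) s qqW = q * s * q * s := by
    simp [qqW, evW, evL, q, mul_assoc]
  have hq : s * cEl t a b x y r z * s⁻¹ = q * cEl t a b x y r z * q := by
    rw [e, hW]
    calc s * (q * s * q * s) * s⁻¹ = s * q * s * q := by group
      _ = (q * q) * s * q * s * q := by rw [hqq, one_mul]
      _ = q * (q * s * q * s) * q := by group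
  simp only [List.mem_cons, List.not_mem_nil, or_false] at hz
  have kill : ∀ j d p, (Nat.blt d 21504 && fld' (bGet psiTab j 0) 0 == d && fld' (bGet psiTab j 0) 2 == p &&
      Nat.blt j 1536 && fMul (fMul 8 d) 8 != p) = true → z = d → False := by
    intro j d p h hzd
    simp only [Bool.and_eq_true, Nat.blt_eq, beq_iff_eq, bne_iff_ne] at h
    obtain ⟨⟨⟨⟨hd, rfl⟩, rfl⟩, hj⟩, hne⟩ := h
    obtain ⟨B, hB, he⟩ := psi_get hj
    subst hzd
    have h1 := el_mul C (show 8 < 21504 by norm_num) hd
    have h2 := el_mul C h1.1 (show 8 < 21504 by norm_num)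
    rw [hψ B hB _ he, h1.2, h2.2] at hq
    exact hne (C.cEl_inj h2.1 (S.tab' j).1.2.2 hq.symm)
  rcases hz with hz | hz | hz | hz
  · subst hz
    exact ⟨s, S, hst, S.close 16436 e (by decide +kernel)⟩
  · subst hz
    have hct : ∀ c < 21504, t * cEl t a b x y r c * t = cEl t a b x y r c := fun c hc => by
      have hh : t * cEl t a b x y r c = cEl t a b x y r c * t :=
        (Subgroup.mem_centralizer_singleton_iff.1 C.cEl_mem).symm
      rw [hh, mul_assoc, C.frame.tt, mul_one]
    have tinv : t⁻¹ = t := inv_eq_of_mul_eq_one_left C.frame.tt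
    have hstab : TabConj (cEl t a b x y r) (t * s) := by
      intro B hB w hw
      rw [mul_inv_rev, tinv]
      calc t * s * cEl t a b x y r (fld' w 0) * (s⁻¹ * t) = t * (s * cEl t a b x y r (fld' w 0) * s⁻¹) * t := by
            group
        _ = _ := by rw [hψ B hB w hw, hct _ (S.tab B hB w hw).1.2.2]
    have hs2 : s * cEl t a b x y r 1 * s⁻¹ = cEl t a b x y r 65 := by
      have hj : ∃ j < 1536, fld' (bGet psiTab j 0) 0 = 1 ∧ fld' (bGet psiTab j 0) 2 = 65 :=
        ⟨1, by norm_num, by decide +kernel, by decide +kernel⟩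
      obtain ⟨j, hj, e0, e2⟩ := hj
      obtain ⟨B, hB, he⟩ := psi_get hj
      have := hψ B hB _ he
      rwa [e0, e2] at this
    have hcube : (t * s) ^ 3 = 1 := by
      calc (t * s) ^ 3 = t * s * (t * s) * (t * s) := by rw [pow_succ, pow_two]
        _ = t * (s * t * s⁻¹) * (s * (s * t * s⁻¹) * s⁻¹) * s ^ 3 := by group
        _ = cEl t a b x y r 64 * cEl t a b x y r 1 * cEl t a b x y r 65 := by rw [h3, hst, hs2, el_t C, mul_one]
        _ = 1 := by
          rw [(el_mul C (by norm_num : 64 < 21504) (by norm_num : 1 < 21504)).2,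
            (el_mul C (el_mul C (by norm_num : 64 < 21504) (by norm_num : 1 < 21504)).1 (by norm_num : 65 < 21504)).2,
            show fMul (fMul 64 1) 65 = 0 by decide +kernel, C.cEl_one]
    have S' := sys_base C hcube hstab
    refine ⟨t * s, S', ?_, ?_⟩
    · rw [mul_inv_rev, tinv]
      calc t * s * t * (s⁻¹ * t) = t * (s * t * s⁻¹) * t := by group
        _ = _ := by rw [hst, hct 1 (by norm_num)]
    · have hqt : q * t = t * q := Subgroup.mem_centralizer_singleton_iff.1 C.cEl_mem
      have e' : cEl t a b x y r 16436 = evW (cEl t a b x y r) (t * s) qqW := by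
        rw [show evW (cEl t a b x y r) (t * s) qqW = q * (t * s) * q * (t * s) by simp [qqW, evW, evL, q, mul_assoc]]
        calc cEl t a b x y r 16436
            = t * (q * cEl t a b x y r 1 * q * cEl t a b x y r 16437) := by
              have k1 := el_mul C (show 8 < 21504 by norm_num) (show 1 < 21504 by norm_num)
              have k2 := el_mul C k1.1 (show 8 < 21504 by norm_num)
              have k3 := el_mul C k2.1 (show 16437 < 21504 by norm_num)
              have k4 := el_mul C (show 64 < 21504 by norm_num) k3.1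
              have k5 := (congrArg (· * cEl t a b x y r (fMul (fMul (fMul 8 1) 8) 16437)) (el_t C)).symm.trans k4.2
              conv_rhs => rw [k1.2, k2.2, k3.2, k5]
              rw [show fMul 64 (fMul (fMul (fMul 8 1) 8) 16437) = 16436 by decide +kernel]
          _ = t * (q * (s * t * s⁻¹) * q * (q * s * q * s)) := by rw [hst, e, hW]
          _ = t * (q * (s * t * s⁻¹) * (q * q) * s * q * s) := by group
          _ = t * q * s * (t * q) * s := by rw [hqq]; group
          _ = t * q * s * (q * t) * s := by rw [hqt]
          _ = q * (t * s) * q * (t * s) := by rw [← hqt]; group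
      exact S'.close 16436 e' (by decide +kernel)
  · exact (kill 828 16500 16493 (by decide +kernel) hz).elim
  · exact (kill 829 16501 16428 (by decide +kernel) hz).elim

/-- The relations: those of the Held group or those of the other type. -/
theorem exists_rels (h3 : s ^ 3 = 1) (hst : s * t * s⁻¹ = cEl t a b x y r 1) (hψ : TabConj (cEl t a b x y r) s) :
    ∃ s' : G, s' * t * s'⁻¹ = cEl t a b x y r 1 ∧
      (Sys (cEl t a b x y r) s' psiTab heldRels ∨ Sys (cEl t a b x y r) s' psiTab mathRels) := by
  obtain ⟨s, S, hst, hq⟩ := exists_qq C h3 hst hψ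
  refine ⟨s, hst, ?_⟩
  obtain ⟨z, hz, -, e⟩ := word_code C S op6_chains (by decide +kernel) op6_lt op6_cand fun z hz e => by
    have h := S.conj_sq (B := [0, 21506, 10496, 21506, 0, 21505]) (P := [21506, 0, 21505, 128, 21505, 0])
      (c := 8209) (cc := 7) (by decide +kernel)
    have hc := S.chain _ _ _ _ op6_square
    rw [List.reverse_reverse] at hc
    rw [hc, show [0, 21506, 10496, 21506, 0, 21505] ++ [8209] ++ [21506, 0, 21505, 128, 21505, 0] = op6W from rfl,
      ← e, (el_mul C hz hz).2] at h
    exact beq_iff_eq.2 (C.cEl_inj (el_mul C hz hz).1 (by norm_num) h)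
  obtain ⟨u, hu, -, e'⟩ := word_code C S op9_chains (by decide +kernel) op9_lt op9_cand fun z hz e => by
    have h := S.conj_sq (B := [0, 21506, 10496, 21506, 1920, 21505]) (P := [21506, 4096, 21505, 128, 21505, 0])
      (c := 8) (cc := 0) (by decide +kernel)
    rw [S.one, mul_one, mul_inv_cancel, ← C.cEl_one,
      show [0, 21506, 10496, 21506, 1920, 21505] ++ [8] ++ [21506, 4096, 21505, 128, 21505, 0] = op9W from rfl,
      ← e, (el_mul C hz hz).2] at h
    exact beq_iff_eq.2 (C.cEl_inj (el_mul C hz hz).1 (by norm_num) h)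
  simp only [List.mem_cons, List.not_mem_nil, or_false] at hz hu
  rcases hz with rfl | rfl | rfl | rfl | rfl | rfl | rfl | rfl
  · have h6 := S.close 19407 e (by decide +kernel)
    rcases hu with rfl | rfl | rfl | rfl | rfl | rfl | rfl | rfl | rfl | rfl | rfl | rfl | rfl | rfl | rfl | rfl
    · exact (false_of_collapse C (z15746_false (S.rels_of (ws := [qqW ++ [16436], op6W ++ [19407], op9W ++ [15746]]) (by decide +kernel) (by simpa using ⟨hq, h6, S.close 15746 e' (by decide +kernel)⟩)))).elim
    · exact (false_of_collapse C (z15750_false (S.rels_of (ws := [qqW ++ [16436], op6W ++ [19407], op9W ++ [15750]]) (by decide +kernel) (by simpa using ⟨hq, h6, S.close 15750 e' (by decide +kernel)⟩)))).elim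
    · exact (false_of_collapse C (z15770_false (S.rels_of (ws := [qqW ++ [16436], op6W ++ [19407], op9W ++ [15770]]) (by decide +kernel) (by simpa using ⟨hq, h6, S.close 15770 e' (by decide +kernel)⟩)))).elim
    · exact (false_of_collapse C (z15774_false (S.rels_of (ws := [qqW ++ [16436], op6W ++ [19407], op9W ++ [15774]]) (by decide +kernel) (by simpa using ⟨hq, h6, S.close 15774 e' (by decide +kernel)⟩)))).elim
    · exact (false_of_collapse C (z15810_false (S.rels_of (ws := [qqW ++ [16436], op6W ++ [19407], op9W ++ [15810]]) (by decide +kernel) (by simpa using ⟨hq, h6, S.close 15810 e' (by decide +kernel)⟩)))).elim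
    · exact (false_of_collapse C (z15814_false (S.rels_of (ws := [qqW ++ [16436], op6W ++ [19407], op9W ++ [15814]]) (by decide +kernel) (by simpa using ⟨hq, h6, S.close 15814 e' (by decide +kernel)⟩)))).elim
    · exact (false_of_collapse C (z15834_false (S.rels_of (ws := [qqW ++ [16436], op6W ++ [19407], op9W ++ [15834]]) (by decide +kernel) (by simpa using ⟨hq, h6, S.close 15834 e' (by decide +kernel)⟩)))).elim
    · exact .inr (S.rels_of (R' := mathRels) (ws := [qqW ++ [16436], op6W ++ [19407], op9W ++ [15838]]) (by decide +kernel) (by simpa using ⟨hq, h6, S.close 15838 e' (by decide +kernel)⟩))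
    · exact (false_of_collapse C (z19851_false (S.rels_of (ws := [qqW ++ [16436], op6W ++ [19407], op9W ++ [19851]]) (by decide +kernel) (by simpa using ⟨hq, h6, S.close 19851 e' (by decide +kernel)⟩)))).elim
    · exact (false_of_collapse C (z19855_false (S.rels_of (ws := [qqW ++ [16436], op6W ++ [19407], op9W ++ [19855]]) (by decide +kernel) (by simpa using ⟨hq, h6, S.close 19855 e' (by decide +kernel)⟩)))).elim
    · exact (false_of_collapse C (z19859_false (S.rels_of (ws := [qqW ++ [16436], op6W ++ [19407], op9W ++ [19859]]) (by decide +kernel) (by simpa using ⟨hq, h6, S.close 19859 e' (by decide +kernel)⟩)))).elim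
    · exact (false_of_collapse C (z19863_false (S.rels_of (ws := [qqW ++ [16436], op6W ++ [19407], op9W ++ [19863]]) (by decide +kernel) (by simpa using ⟨hq, h6, S.close 19863 e' (by decide +kernel)⟩)))).elim
    · exact (false_of_collapse C (z19915_false (S.rels_of (ws := [qqW ++ [16436], op6W ++ [19407], op9W ++ [19915]]) (by decide +kernel) (by simpa using ⟨hq, h6, S.close 19915 e' (by decide +kernel)⟩)))).elim
    · exact (false_of_collapse C (z19919_false (S.rels_of (ws := [qqW ++ [16436], op6W ++ [19407], op9W ++ [19919]]) (by decide +kernel) (by simpa using ⟨hq, h6, S.close 19919 e' (by decide +kernel)⟩)))).elim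
    · exact (false_of_collapse C (z19923_false (S.rels_of (ws := [qqW ++ [16436], op6W ++ [19407], op9W ++ [19923]]) (by decide +kernel) (by simpa using ⟨hq, h6, S.close 19923 e' (by decide +kernel)⟩)))).elim
    · exact .inl (S.rels_of (R' := heldRels) (ws := [qqW ++ [16436], op6W ++ [19407], op9W ++ [19927]]) (by decide +kernel) (by simpa using ⟨hq, h6, S.close 19927 e' (by decide +kernel)⟩))
  · exact (false_of_collapse C (r6_9535_false (S.rels_of (ws := [qqW ++ [16436], op6W ++ [19406]]) (by decide +kernel)
      (by simpa using ⟨hq, S.close 19406 e (by decide +kernel)⟩)))).elim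
  · exact (false_of_collapse C (r6_9598_false (S.rels_of (ws := [qqW ++ [16436], op6W ++ [19343]]) (by decide +kernel)
      (by simpa using ⟨hq, S.close 19343 e (by decide +kernel)⟩)))).elim
  · exact (false_of_collapse C (r6_9599_false (S.rels_of (ws := [qqW ++ [16436], op6W ++ [19342]]) (by decide +kernel)
      (by simpa using ⟨hq, S.close 19342 e (by decide +kernel)⟩)))).elim
  · exact (false_of_collapse C (r6_19342_false (S.rels_of (ws := [qqW ++ [16436], op6W ++ [9599]]) (by decide +kernel)
      (by simpa using ⟨hq, S.close 9599 e (by decide +kernel)⟩)))).elim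
  · exact (false_of_collapse C (r6_19343_false (S.rels_of (ws := [qqW ++ [16436], op6W ++ [9598]]) (by decide +kernel)
      (by simpa using ⟨hq, S.close 9598 e (by decide +kernel)⟩)))).elim
  · exact (false_of_collapse C (r6_19406_false (S.rels_of (ws := [qqW ++ [16436], op6W ++ [9535]]) (by decide +kernel)
      (by simpa using ⟨hq, S.close 9535 e (by decide +kernel)⟩)))).elim
  · exact (false_of_collapse C (r6f_false (S.rels_of (ws := [qqW ++ [16436], op6W ++ [9534]]) (by decide +kernel)
      (by simpa using ⟨hq, S.close 9534 e (by decide +kernel)⟩)))).elim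

end CfsgLib.HeType.Cert
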