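import Cfsg.Agent.Lib.HeType.Cert.HeldCheck
import Cfsg.Agent.Lib.HeType.Cert.Rels
import Cfsg.Agent.Lib.He.Pres

/-!
Seven elements satisfying the relators of the Held group, from the certificate.
-/

set_option autoImplicit false
set_option maxRecDepth 100000

namespace CfsgLib.HeType.Cert

open Cfsg.Spor

/-- The words of the seven generators. -/
def gW : He.Gen → List ℕ
  | .a => [37]
  | .b => [15826]
  | .c => [9406]
  | .d => [12880, 21505, 128, 21505, 768, 21506, 640, 21505, 128, 21506, 768, 21505, 1536]
  | .e => [64]
  | .f => [24]
  | .g => [6]

/-- The word of a list of generators. -/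
def catW (l : List He.Gen) : List ℕ := (l.map gW).flatten

/-- The word is traced to the trivial code. -/
def traced (w : List ℕ) : Bool :=
  traceOk heldFacts 563 psiTab [] w 0 || heldTraces.any fun p => p.2 == w

/-- The words of the seven relators that are not of Coxeter type. -/
def extraL : List (List He.Gen) :=
  [.e :: (List.replicate 2 [.g, .f]).flatten, .e :: (List.replicate 3 [.c, .b, .a]).flatten,
    .a :: (List.replicate 5 [.d, .c]).flatten, (List.replicate 4 [.c, .d, .f, .g]).flatten]

theorem cox_check : ((coxNodes He.edges).all fun x => (coxNodes He.edges).all fun y =>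
    traced (catW (List.replicate (coxLabel He.edges x y) [x, y]).flatten)) = true := by decide +kernel

theorem extra_check : (extraL.all fun l => traced (catW l)) = true := by decide +kernel

theorem inv_check : ([He.Gen.a, .b, .c, .d, .e, .f, .g].all fun x => traced (catW [x, x])) = true := by decide +kernel

variable {G : Type*} [Group G] {el : ℕ → G} {s : G}

theorem held_traced (S : Sys el s psiTab heldRels) {w : List ℕ} (h : traced w = true) : evW el s w = 1 := by
  rw [traced, Bool.or_eq_true] at h
  rcases h with h | h
  · have hB : Sys.Below el s heldPts heldFacts 563 :=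
      S.facts_valid heldPts held_fld fun i hi => by
        rcases Nat.lt_or_ge i 140 with h | h
        · exact stepsOk_get held_steps0 i (by omega) (by omega)
        rcases Nat.lt_or_ge i 280 with h' | h'
        · exact stepsOk_get held_steps1 i (by omega) (by omega)
        rcases Nat.lt_or_ge i 420 with h'' | h''
        · exact stepsOk_get held_steps2 i (by omega) (by omega)
        exact stepsOk_get held_steps3 i (by omega) (by omega)
    rw [S.trace_eval heldPts hB h, S.one]
  · obtain ⟨p, hp, e⟩ := List.any_eq_true.1 h
    rw [← beq_iff_eq.1 e]
    exact held_trace S hp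

theorem evW_catW (el : ℕ → G) (s : G) (l : List He.Gen) :
    evW el s (catW l) = (l.map fun x => evW el s (gW x)).prod := by
  induction l with
  | nil => rfl
  | cons x l ih => rw [catW, List.map_cons, List.flatten_cons, evW_append, ← catW, ih]; simp

theorem prod_replicate_flatten {α : Type*} (f : α → G) (n : ℕ) (l : List α) :
    ((List.replicate n l).flatten.map f).prod = (l.map f).prod ^ n := by
  induction n with
  | zero => simp
  | succ n ih => simp [List.replicate_succ, List.flatten_cons, pow_succ']

/-- The relators hold for the words of the seven generators. -/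
theorem held_gens (S : Sys el s psiTab heldRels) :
    ∀ r ∈ CfsgLib.He.relList, FreeGroup.lift (fun x => evW el s (gW x)) r = 1 := by
  set g : He.Gen → G := fun x => evW el s (gW x) with hg
  have key : ∀ l, traced (catW l) = true → (l.map g).prod = 1 := fun l h => by
    rw [hg, ← evW_catW]; exact held_traced S h
  have hinv : ∀ x, (g x)⁻¹ = g x := fun x => by
    refine inv_eq_of_mul_eq_one_left ?_
    have := key [x, x] (List.all_eq_true.1 inv_check x (by cases x <;> simp))
    simpa using this
  intro r hr
  simp only [CfsgLib.He.relList, List.mem_append, List.mem_flatMap, List.mem_map] at hr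
  rcases hr with ⟨x, hx, y, hy, rfl⟩ | hr
  · rw [map_pow, map_mul, FreeGroup.lift_apply_of, FreeGroup.lift_apply_of]
    have := key _ (List.all_eq_true.1 (List.all_eq_true.1 cox_check x hx) y hy)
    rw [prod_replicate_flatten] at this
    simpa using this
  · have hx := List.all_eq_true.1 extra_check
    simp only [He.extra, List.mem_cons, List.not_mem_nil, or_false] at hr
    rcases hr with rfl | rfl | rfl | rfl
    · have := key _ (hx _ (List.mem_cons_self ..))
      simp only [List.map_cons, List.prod_cons, prod_replicate_flatten, List.map_nil, List.prod_nil, mul_one] at this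
      simp only [He.e, He.f, He.g, map_mul, map_inv, map_pow, FreeGroup.lift_apply_of, ← inv_pow, mul_inv_rev, hinv]
      exact this
    · have := key _ (hx _ (List.mem_cons_of_mem _ (List.mem_cons_self ..)))
      simp only [List.map_cons, List.prod_cons, prod_replicate_flatten, List.map_nil, List.prod_nil, mul_one] at this
      simp only [He.e, He.a, He.b, He.c, map_mul, map_inv, map_pow, FreeGroup.lift_apply_of, ← inv_pow, mul_inv_rev,
        hinv]
      exact this
    · have := key _ (hx _ (List.mem_cons_of_mem _ (List.mem_cons_of_mem _ (List.mem_cons_self ..))))
      simp only [List.map_cons, List.prod_cons, prod_replicate_flatten, List.map_nil, List.prod_nil, mul_one] at this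
      simp only [He.a, He.c, He.d, map_mul, map_inv, map_pow, FreeGroup.lift_apply_of, ← inv_pow, mul_inv_rev, hinv]
      exact this
    · have := key _ (hx _ (List.mem_cons_of_mem _ (List.mem_cons_of_mem _
        (List.mem_cons_of_mem _ (List.mem_cons_self ..)))))
      simp only [List.map_cons, List.prod_cons, prod_replicate_flatten, List.map_nil, List.prod_nil, mul_one] at this
      simp only [He.c, He.d, He.f, He.g, map_mul, map_pow, FreeGroup.lift_apply_of]
      simpa [mul_assoc] using this

end CfsgLib.HeType.Cert
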