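import Cfsg.Agent.Lib.HeType.Cert.Trace
import Cfsg.Agent.Lib.HeType.Cert.Data.Tab
import Cfsg.Agent.Lib.HeType.Cert.Data.Held

/-!
The traces of the defining relators of the Held group are accepted.
-/

set_option autoImplicit false
set_option maxRecDepth 100000

namespace CfsgLib.HeType.Cert

theorem held_fld : heldFacts.all (fun B => B.all fun F => Nat.blt (fld F 2) 3) = true := by decide +kernel
theorem held_steps0 : stepsOk heldPts heldFacts heldSteps psiTab heldRels 0 140 = true := by decide +kernel
theorem held_steps1 : stepsOk heldPts heldFacts heldSteps psiTab heldRels 140 140 = true := by decide +kernel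
theorem held_steps2 : stepsOk heldPts heldFacts heldSteps psiTab heldRels 280 140 = true := by decide +kernel
theorem held_steps3 : stepsOk heldPts heldFacts heldSteps psiTab heldRels 420 143 = true := by decide +kernel
theorem held_traces : heldTraces.all (fun p => traceOk heldFacts 563 psiTab p.1 p.2 0) = true := by decide +kernel

variable {G : Type*} [Group G] {el : ℕ → G} {s : G}

/-- The traced words are trivial. -/
theorem held_trace (S : Sys el s psiTab heldRels) {p : List ℕ × List ℕ} (hp : p ∈ heldTraces) :
    evW el s p.2 = 1 := by
  have hB := S.facts_valid heldPts (n := 563) held_fld fun i hi => by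
    rcases Nat.lt_or_ge i 140 with h | h
    · exact stepsOk_get held_steps0 i (by omega) (by omega)
    rcases Nat.lt_or_ge i 280 with h' | h'
    · exact stepsOk_get held_steps1 i (by omega) (by omega)
    rcases Nat.lt_or_ge i 420 with h'' | h''
    · exact stepsOk_get held_steps2 i (by omega) (by omega)
    exact stepsOk_get held_steps3 i (by omega) (by omega)
  rw [S.trace_eval heldPts hB (List.all_eq_true.1 held_traces p hp), S.one]

end CfsgLib.HeType.Cert
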