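import Cfsg.Agent.Lib.HeType.Cert.Rels
import Mathlib.GroupTheory.OrderOfElement

/-!
The other type of relations gives an element of order twenty-three.
-/

set_option autoImplicit false
set_option maxRecDepth 100000

namespace CfsgLib.HeType.Cert

/-- The short word of the element. -/
def w23 : List ℕ := [21505, 2373, 21505, 11982]

theorem math_fld : mathFacts.all (fun B => B.all fun F => Nat.blt (fld F 2) 3) = true := by decide +kernel

theorem math_steps : stepsOk mathPts mathFacts mathSteps psiTab mathRels 0 311 = true := by decide +kernel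

theorem math_trace : traceOk mathFacts 311 psiTab mathMoves (List.replicate 23 w23).flatten 0 = true := by
  decide +kernel

theorem w23_codes : (fMul 2373 1 == fMul 66 2373 && fld' (bGet psiTab 33 0) 0 == 65 &&
    fld' (bGet psiTab 33 0) 2 == 64) = true := by decide +kernel

theorem evW_replicate {G : Type*} [Group G] (el : ℕ → G) (s : G) (w : List ℕ) (n : ℕ) :
    evW el s (List.replicate n w).flatten = evW el s w ^ n := by
  induction n with
  | zero => simp [evW]
  | succ n ih => rw [List.replicate_succ, List.flatten_cons, evW_append, ih, pow_succ']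

variable {G : Type*} [Group G] [Finite G] {t : G} {Q : Subgroup G} {x y r : G} {a b : ℕ → G} {s : G}
  (C : Coords t Q [65, 4, 2, 72, 120, 96] true x y r a b)

include C

/-- The other type is impossible if twenty-three does not divide the order. -/
theorem math_dvd (hst : s * t * s⁻¹ = cEl t a b x y r 1) (S : Sys (cEl t a b x y r) s psiTab mathRels) :
    23 ∣ Nat.card G := by
  set el := cEl t a b x y r with hel
  have hw : evW el s w23 ^ 23 = 1 := by
    rw [← evW_replicate, S.trace_eval mathPts (S.facts_valid mathPts math_fld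
      (fun i hi => stepsOk_get math_steps i (Nat.zero_le _) (by omega))) math_trace, S.one]
  have : Fact (Nat.Prime 23) := ⟨by norm_num⟩
  rw [← orderOf_eq_prime hw (fun h => ?_)]
  · exact orderOf_dvd_natCard _
  have hc := w23_codes
  simp only [Bool.and_eq_true, beq_iff_eq] at hc
  obtain ⟨⟨hc, e0⟩, e2⟩ := hc
  have hW : evW el s w23 = s * el 2373 * s * el 11982 := by simp [w23, evW, evL, mul_assoc]
  rw [hW] at h
  have hy : s * el 2373 * s = (el 11982)⁻¹ := eq_inv_of_mul_eq_one_left h
  have hcom : el 11982 * t = t * el 11982 := Subgroup.mem_centralizer_singleton_iff.1 C.cEl_mem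
  have h66 : el 2373 * el 1 * (el 2373)⁻¹ = el 66 := by
    rw [(S.mul _ _ (by norm_num) (by norm_num)).2, hc, ← (S.mul 66 2373 (by norm_num) (by norm_num)).2,
      mul_inv_cancel_right]
  have e66 : s * el 66 * s⁻¹ = t := by
    rw [← h66, ← hst]
    calc s * (el 2373 * (s * t * s⁻¹) * (el 2373)⁻¹) * s⁻¹
        = (s * el 2373 * s) * t * (s * el 2373 * s)⁻¹ := by group
      _ = t := by rw [hy, inv_inv, mul_assoc, ← hcom, inv_mul_cancel_left]
  have e65 : s * el 65 * s⁻¹ = t := by
    obtain ⟨-, -, h2⟩ := S.tab' 33
    rw [e0, e2, show el 64 = t from el_t C] at h2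
    have s2 : s ^ 2 = s⁻¹ := eq_inv_of_mul_eq_one_left (by rw [← pow_succ, S.cube])
    rw [s2] at h2
    rw [mul_assoc, h2, mul_inv_cancel_left]
  exact absurd (C.cEl_inj (show 66 < 21504 by norm_num) (show 65 < 21504 by norm_num)
    (mul_left_cancel (mul_right_cancel (e66.trans e65.symm)))) (by norm_num)

end CfsgLib.HeType.Cert
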