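import Cfsg.Agent.Lib.HeType.Cert.Gens
import Cfsg.Agent.Lib.HeType.Cert.MathCheck
import Cfsg.Agent.Lib.HeType.Cert.Aut
import Cfsg.Agent.Lib.HeType.Endgame

/-!
A group of the order of the Held group with the coded centraliser and a fused generator is the Held group.
-/

set_option autoImplicit false

namespace CfsgLib.HeType.Cert

variable {G : Type*} [Group G] [Finite G] {t : G} {Q : Subgroup G} {x y r : G} {a b : ℕ → G}

/-- The Held group from the element of order three. -/
theorem iso_of_s (C : Coords t Q [65, 4, 2, 72, 120, 96] true x y r a b) (hG : Nat.card G = 4030387200) {s : G}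
    (h3 : s ^ 3 = 1) (hst : s * t * s⁻¹ = cEl t a b x y r 1) (hψ : TabConj (cEl t a b x y r) s) :
    Cfsg.Spor.IsoHe G := by
  obtain ⟨s', hst', S | S⟩ := exists_rels C h3 hst hψ
  · refine isoHe_of_rels hG _ (held_gens S) (i := Cfsg.Spor.He.Gen.e) ?_
    rw [show evW (cEl t a b x y r) s' (gW Cfsg.Spor.He.Gen.e) = cEl t a b x y r 64 by simp [gW, evW, evL]]
    intro h
    exact absurd (C.cEl_inj (by norm_num : 64 < 21504) (by norm_num : 0 < 21504) (h.trans C.cEl_one.symm))
      (by norm_num)
  · have := math_dvd C hst' S
    rw [hG] at this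
    norm_num at this

end CfsgLib.HeType.Cert

namespace CfsgLib.HeType

/-- A simple group of the order of the Held group with the coded centraliser and a fused generator is the Held
group. -/
theorem iso_of_fused {G : Type*} [Group G] [Finite G] [IsSimpleGroup G] {t : G} {Q : Subgroup G} {x y r : G}
    {a b : ℕ → G} (C : Coords t Q [65, 4, 2, 72, 120, 96] true x y r a b) (hf : IsConj t (a 0))
    (hG : Nat.card G = 4030387200) : Cfsg.Spor.IsoHe G := by
  obtain ⟨x', y', r', a', b', C', -, -, s, h3, hst, T⟩ := Cert.Aut.exists_s C hG hf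
  exact Cert.iso_of_s C' hG h3 hst T

end CfsgLib.HeType
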