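import Cfsg.Agent.Lib.HeType.Cert.Trace
import Cfsg.Agent.Lib.HeType.Cert.FastEq
import Cfsg.Agent.Lib.HeType.Cert.Data.Tab
import Cfsg.Agent.Lib.HeType.Coords.Mul

/-!
The rules of the coded centraliser with an element permuting the three involutions, and the unknown of a word
centralising the central involution.
-/

set_option autoImplicit false
set_option maxRecDepth 100000

namespace CfsgLib.HeType.Cert

variable {G : Type*} [Group G] {t : G} {Q : Subgroup G} {x y r : G} {a b : ℕ → G}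

theorem psi_check : ((List.range 1536).all fun j => frN (bGet psiTab j 0) fun e => frN (bGet psiIx j 0) fun k =>
    Nat.blt (fld' e 0) 21504 && Nat.blt (fld' e 1) 21504 && Nat.blt (fld' e 2) 21504 && Nat.blt k 1536 &&
      fld' (bGet psiTab k 0) 0 == fld' e 1 && fld' (bGet psiTab k 0) 2 == fld' e 0) = true := by decide +kernel

theorem psi_shape : (psiTab.length == 24 && psiTab.all fun B => B.length == 64) = true := by decide +kernel

theorem psi_mem {B : List ℕ} (hB : B ∈ psiTab) {e : ℕ} (he : e ∈ B) : ∃ j < 1536, bGet psiTab j 0 = e := by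
  have h := psi_shape
  simp only [Bool.and_eq_true, beq_iff_eq, List.all_eq_true] at h
  obtain ⟨i, hi, rfl⟩ := List.mem_iff_getElem.1 hB
  obtain ⟨k, hk, rfl⟩ := List.mem_iff_getElem.1 he
  have hl : (psiTab[i]).length = 64 := h.2 _ (List.getElem_mem hi)
  refine ⟨i * 64 + k, by omega, ?_⟩
  have e1 : (i * 64 + k) / 64 = i := by omega
  have e2 : (i * 64 + k) % 64 = k := by omega
  rw [bGet, e1, e2, List.getD_eq_getElem _ _ hi, List.getD_eq_getElem _ _ hk]

theorem psi_get {j : ℕ} (hj : j < 1536) : ∃ B ∈ psiTab, bGet psiTab j 0 ∈ B := by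
  have h := psi_shape
  simp only [Bool.and_eq_true, beq_iff_eq, List.all_eq_true] at h
  have h1 : j / 64 < psiTab.length := by omega
  have h2 : j % 64 < (psiTab[j / 64]).length := by rw [h.2 _ (List.getElem_mem h1)]; omega
  refine ⟨_, List.getElem_mem h1, ?_⟩
  rw [bGet, List.getD_eq_getElem _ _ h1, List.getD_eq_getElem _ _ h2]
  exact List.getElem_mem h2

/-- The table of the element of order three. -/
def TabConj (el : ℕ → G) (s : G) : Prop :=
  ∀ B ∈ psiTab, ∀ e ∈ B, s * el (fld' e 0) * s⁻¹ = el (fld' e 2)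

theorem Sys.withRels {el : ℕ → G} {s : G} {dTab : List (List ℕ)} {R R' : List (List ℕ × List ℕ)}
    (S : Sys el s dTab R) (h : ∀ p ∈ R', evW el s p.1 = 1) : Sys el s dTab R' :=
  ⟨S.one, S.mul, S.cube, S.tab, h⟩

variable (C : Coords t Q [65, 4, 2, 72, 120, 96] true x y r a b)

include C

theorem el_mul {c d : ℕ} (hc : c < 21504) (hd : d < 21504) :
    fMul c d < 21504 ∧ cEl t a b x y r c * cEl t a b x y r d = cEl t a b x y r (fMul c d) := by
  obtain ⟨h1, h2⟩ := C.cEl_mul hc hd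
  rw [fMul_eq hc hd h2]
  exact ⟨h2, h1⟩

theorem sys_base {s : G} (h3 : s ^ 3 = 1) (hψ : TabConj (cEl t a b x y r) s) :
    Sys (cEl t a b x y r) s psiTab [] := by
  refine ⟨C.cEl_one, fun c d hc hd => el_mul C hc hd, h3, fun B hB e he => ?_, fun p hp => by simp at hp⟩
  obtain ⟨j, hj, rfl⟩ := psi_mem hB he
  have h := List.all_eq_true.1 psi_check j (List.mem_range.2 hj)
  simp only [frN_eq, Bool.and_eq_true, Nat.blt_eq, beq_iff_eq] at h
  obtain ⟨⟨⟨⟨⟨h0, h1⟩, h2⟩, hk⟩, e1⟩, e2⟩ := h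
  obtain ⟨B', hB', he'⟩ := psi_get hk
  have k1 := hψ B' hB' _ he'
  rw [e1, e2] at k1
  have k2 := hψ B hB _ he
  have s2 : s ^ 2 = s⁻¹ := eq_inv_of_mul_eq_one_left (by rw [← pow_succ, h3])
  refine ⟨⟨h0, h1, h2⟩, ?_, ?_⟩
  · rw [← k1]; group
  · rw [s2, ← k2]; group

end CfsgLib.HeType.Cert
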